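import Cfsg.Agent.H530.HT.PSpPNum_m3
import Cfsg.Agent.H392.HT.SFacts
import Cfsg.Agent.SporadicA.FieldFour
import Cfsg.Agent.Lib.FinFast
import Cfsg.Agent.H852.FrobElts
import Cfsg.Agent.KFacts.MM.OutAut
import Cfsg.Agent.H578.HT.Cov_m3
import Cfsg.Agent.H933.HT.U33T
import Cfsg.Agent.H912.CrossList_m3
import Cfsg.Agent.Prune
set_option linter.all false

section
prune_inst 0x7ffceff9efb8bfffffff7e7fa6fccffdfbfcfffff6dff9cbffe0ebffebdf6b02efe5fbaf8febd8fe1ef6ea3c10fc7bd3fffffeffe26ffc7ffffdfff45ffbffcfffffbd8c71f6bc3e0fbc6ffff3f0778e7f3fffffffffffffffffffffffffffbeffbffffffffd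

-- part: H742/HT/Lift
section
set_option linter.all false
open scoped Cfsg.Agent.FastGrp

/-!
# S3512, quasisimple rows: lifting elements and relations from `L / Z(L)` to `L`

* `prime_dvd_center`: a prime divisor of `|Z(L)|` divides `dim_K V` and `|K| - 1`;
* `lift_pow`, `lift_rel`: elements of order `r` and relations `y z y⁻¹ = z ^ j` lift if `r ∤ |Z|`.
-/

set_option autoImplicit false
set_option linter.unusedSectionVars false

universe u w

namespace Cfsg.Agent.H742.HT.Lift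

open Cfsg.Agent.H828.HT Cfsg.Agent.H742.HT Cfsg.Agent.H192.Ht Module

section grp

variable {A : Type*} [Group A] [Finite A]

/-- an element of order dividing `r` of `A / Z(A)` lifts, `r` prime to `|Z(A)|` -/
theorem lift_pow {r : ℕ} (hr : r.Coprime (Nat.card (Subgroup.center A))) (x : A ⧸ Subgroup.center A) (hx : x ^ r = 1) :
    ∃ y : A, y ^ r = 1 ∧ (QuotientGroup.mk y : A ⧸ Subgroup.center A) = x := by
  obtain ⟨y, rfl⟩ := QuotientGroup.mk_surjective x
  rw [← QuotientGroup.mk_pow, QuotientGroup.eq_one_iff] at hx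
  obtain ⟨a, ha0, ha1⟩ := (Nat.chineseRemainder hr.symm 0 1)
  refine ⟨y ^ a, ?_, ?_⟩
  · rw [← pow_mul, mul_comm, pow_mul]
    obtain ⟨b, hb⟩ := (Nat.modEq_zero_iff_dvd.1 ha0)
    rw [hb, pow_mul]
    have h1 : (y ^ r) ^ Nat.card (Subgroup.center A) = 1 := by
      have h2 := pow_card_eq_one' (x := (⟨y ^ r, hx⟩ : Subgroup.center A))
      exact congrArg Subtype.val h2
    rw [h1, one_pow]
  · rw [QuotientGroup.mk_pow]
    have h1 : (QuotientGroup.mk y : A ⧸ Subgroup.center A) ^ r = 1 := by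
      rw [← QuotientGroup.mk_pow]
      exact (QuotientGroup.eq_one_iff _).2 hx
    have h2 : (QuotientGroup.mk y : A ⧸ Subgroup.center A) ^ a = QuotientGroup.mk y ^ 1 := by
      refine pow_eq_pow_iff_modEq.2 (Nat.ModEq.of_dvd (orderOf_dvd_of_pow_eq_one h1) ha1)
    rw [h2, pow_one]

/-- two elements of order dividing `r` with the same image in `A / Z(A)` agree, `r` prime to `|Z(A)|` -/
theorem eq_of_mk {r : ℕ} (hr : r.Coprime (Nat.card (Subgroup.center A))) {x y : A} (hx : x ^ r = 1) (hy : y ^ r = 1)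
    (hxy : (QuotientGroup.mk x : A ⧸ Subgroup.center A) = QuotientGroup.mk y) : x = y := by
  obtain ⟨z, hz, hz'⟩ : ∃ z ∈ Subgroup.center A, y = x * z :=
    ⟨x⁻¹ * y, QuotientGroup.eq.1 hxy, by rw [mul_inv_cancel_left]⟩
  have hc : Commute x z := Subgroup.mem_center_iff.1 hz x
  rw [hz', hc.mul_pow, hx, one_mul] at hy
  have h1 : z ^ Nat.card (Subgroup.center A) = 1 :=
    congrArg Subtype.val (pow_card_eq_one' (x := (⟨z, hz⟩ : Subgroup.center A)))
  have h2 : orderOf z = 1 := Nat.eq_one_of_dvd_coprimes hr (orderOf_dvd_of_pow_eq_one hy) (orderOf_dvd_of_pow_eq_one h1)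
  rw [hz', orderOf_eq_one_iff.1 h2, mul_one]

/-- relations `y z y⁻¹ = z ^ j` lift -/
theorem lift_rel {r j : ℕ} (hr : r.Coprime (Nat.card (Subgroup.center A))) {y z : A} (hz : z ^ r = 1)
    (h : (QuotientGroup.mk y : A ⧸ Subgroup.center A) * QuotientGroup.mk z * (QuotientGroup.mk y)⁻¹ =
      QuotientGroup.mk z ^ j) : y * z * y⁻¹ = z ^ j := by
  refine eq_of_mk hr ?_ ?_ ?_
  · rw [conj_pow, hz, mul_one, mul_inv_cancel]
  · rw [← pow_mul, mul_comm, pow_mul, hz, one_pow]
  · rw [QuotientGroup.mk_mul, QuotientGroup.mk_mul, QuotientGroup.mk_inv, QuotientGroup.mk_pow]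
    exact h

/-- commuting elements lift -/
theorem lift_comm {r : ℕ} (hr : r.Coprime (Nat.card (Subgroup.center A))) {y z : A} (hz : z ^ r = 1)
    (h : (QuotientGroup.mk y : A ⧸ Subgroup.center A) * QuotientGroup.mk z = QuotientGroup.mk z * QuotientGroup.mk y) :
    y * z = z * y := by
  have h1 := lift_rel (j := 1) hr hz (y := y) (by rw [h, mul_inv_cancel_right, pow_one])
  rwa [pow_one, mul_inv_eq_iff_eq_mul] at h1

end grp

variable {p : ℕ} [Fact p.Prime] {K : Type w} [Field K] {V : Type u} [AddCommGroup V] [Module (ZMod p) V] [Finite V]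
    [Module K V] {G L : Subgroup (V ≃ₗ[ZMod p] V)} {h : ℕ}

/-- an element of `L` that acts as a scalar `c` satisfies `c ^ dim = 1` -/
theorem scal_pow (H : QL p K V G L h) {x : L} {c : K} (hc : ∀ v, (x : V ≃ₗ[ZMod p] V) v = c • v) :
    c ^ finrank K V = 1 := by
  have : Module.Finite K V := QN.finiteDim H
  have h1 := QN.det_toK H x
  have h2 := congrArg (fun u : Kˣ => (u : K)) h1
  simp only [LinearEquiv.coe_det, Units.val_one] at h2
  rw [← h2]
  have h3 : ((QN.toK H x : V ≃ₗ[K] V) : V →ₗ[K] V) = c • LinearMap.id := by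
    ext v
    exact hc v
  rw [h3, LinearMap.det_smul, LinearMap.det_id, mul_one]

theorem center_scal (H : QL p K V G L h) {x : L} (hx : x ∈ Subgroup.center L) :
    ∃ c : K, ∀ v, (x : V ≃ₗ[ZMod p] V) v = c • v := by
  refine H.endo ((x : V ≃ₗ[ZMod p] V) : V →ₗ[ZMod p] V) ?_
  intro l hl v
  have h1 := Subgroup.mem_center_iff.1 hx ⟨l, hl⟩
  exact (congrArg (fun e : L => (e : V ≃ₗ[ZMod p] V) v) h1).symm

/-- a prime divisor of `|Z(L)|` divides `dim_K V` and `|K| - 1` -/
theorem prime_dvd_center (H : QL p K V G L h) {r : ℕ} (hr : r.Prime) (hd : r ∣ Nat.card (Subgroup.center L)) :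
    r ∣ finrank K V ∧ r ∣ Nat.card K - 1 := by
  have : Fact r.Prime := ⟨hr⟩
  have hK := QN.finiteK H
  obtain ⟨x, hx⟩ := exists_prime_orderOf_dvd_card' r hd
  have hx1 : orderOf (x : L) = r := by rw [Subgroup.orderOf_coe, hx]
  obtain ⟨c, hc⟩ := center_scal H x.2
  obtain ⟨v, hv⟩ := QN.exists_ne H
  have hpow : ∀ (k : ℕ) (w : V), (((x : L) : V ≃ₗ[ZMod p] V) ^ k) w = c ^ k • w := by
    intro k
    induction k with
    | zero => intro w; simp
    | succ k ih =>
      intro w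
      rw [pow_succ, pow_succ]
      change ((((x : L) : V ≃ₗ[ZMod p] V)) ^ k) (((x : L) : V ≃ₗ[ZMod p] V) w) = _
      rw [ih, hc, smul_smul]
  have hc0 : c ≠ 0 := by
    rintro rfl
    have h1 := hc v
    rw [zero_smul] at h1
    exact hv (((x : L) : V ≃ₗ[ZMod p] V).map_eq_zero_iff.1 h1)
  have hcr : c ^ r = 1 := by
    have h1 := hpow r v
    have h2 : (((x : L) : V ≃ₗ[ZMod p] V)) ^ r = 1 := by
      rw [← Subgroup.coe_pow, ← hx1, pow_orderOf_eq_one]; rfl
    rw [h2] at h1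
    have h3 : (c ^ r - 1) • v = 0 := by rw [sub_smul, one_smul, ← h1]; simp
    rcases smul_eq_zero.1 h3 with h4 | h4
    · exact sub_eq_zero.1 h4
    · exact absurd h4 hv
  have hc1 : c ≠ 1 := by
    rintro rfl
    have h1 : (x : L) = 1 := by
      apply Subtype.ext
      ext w
      rw [hc, one_smul]; rfl
    rw [h1, orderOf_one] at hx1
    exact hr.one_lt.ne hx1
  have ho : orderOf c = r := orderOf_eq_prime hcr hc1
  constructor
  · rw [← ho]
    exact orderOf_dvd_of_pow_eq_one (scal_pow H hc)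
  · have h5 : orderOf (Units.mk0 c hc0) = orderOf c := by rw [← orderOf_units, Units.val_mk0]
    rw [← ho, ← h5, ← Nat.card_units]
    exact orderOf_dvd_natCard _

/-- `r` prime, not dividing `dim` (or `|K| - 1`), is prime to `|Z(L)|` -/
theorem coprime_center (H : QL p K V G L h) {r : ℕ} (hr : r.Prime)
    (hd : ¬ (r ∣ finrank K V ∧ r ∣ Nat.card K - 1)) : r.Coprime (Nat.card (Subgroup.center L)) :=
  (Nat.Prime.coprime_iff_not_dvd hr).2 fun h => hd (prime_dvd_center H hr h)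

end Cfsg.Agent.H742.HT.Lift

private theorem dce_77a947fea9d2 : _root_.True := by
  try have : _root_.True := by simp only [_root_.Cfsg.Agent.H192.Ht.QN.toK.congr_simp]
  exact _root_.True.intro
end

-- part: H742/HT/L213
section
prune_inst 0x200020040000000000000590010000401000009000000000000000000000000000000000003004000000000000000000000000100000000000000000000100000000000010000104200000000000000000000000000000000000000000000000000000002
set_option linter.all false
open scoped Cfsg.Agent.FastGrp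

-- part: H742/HT/T13
section
/-!
# The group `PSL(2,13)`: elements of order 2, 3 and 13 (helper742, for S3512)
-/

set_option autoImplicit false
set_option linter.unusedSectionVars false

universe v

namespace Cfsg.Agent.H742.HT.T13

open Cfsg.Agent

variable {S : Type v} [Group S]

abbrev SL := Matrix.SpecialLinearGroup (Fin 2) (ZMod 13)
abbrev PSL := Matrix.ProjectiveSpecialLinearGroup (Fin 2) (ZMod 13)

instance : Fact (Nat.Prime 13) := ⟨by norm_num⟩

theorem exists_iso (hS : H912.Bd.IsL 2 13 S) : Nonempty (S ≃* PSL) := by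
  obtain ⟨K, _, _, hK, ⟨e⟩⟩ := hS
  exact ⟨e.trans (SporadicA.FieldFour.pslCongr
    (FiniteField.ringEquivOfCardEq (by rw [hK, ZMod.card])))⟩

theorem card_S (hS : H912.Bd.IsL 2 13 S) : Nat.card S = 1092 := by
  obtain ⟨K, _, _, hK, ⟨e⟩⟩ := hS
  have h := ClassicalGeometry.PSL2Basic.card_PSL2_gcd (F := K)
  rw [hK] at h
  rw [Nat.card_congr e.toEquiv]
  have h2 : Nat.gcd 2 (13 - 1) = 2 := rfl
  rw [h2] at h
  omega

theorem card_mulAut (hS : H912.Bd.IsL 2 13 S) : Nat.card (MulAut S) = 2184 := by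
  obtain ⟨K, _, _, hK, ⟨e⟩⟩ := hS
  rw [Nat.card_congr (MulAut.congr e).toEquiv, S0813.result 13 1 le_rfl (by rw [hK]; rfl) 2 le_rfl (fun _ => by norm_num),
      if_pos rfl, one_mul, ClassicalGeometry.PSL2Basic.card_PGL2, hK]
  rfl

/-! ### Matrices -/

theorem mk_eq_one_iff {A : SL} : (QuotientGroup.mk A : PSL) = 1 ↔
    A.1 0 1 = 0 ∧ A.1 1 0 = 0 ∧ A.1 0 0 = A.1 1 1 := by
  rw [QuotientGroup.eq_one_iff, Matrix.SpecialLinearGroup.mem_center_iff]
  constructor
  · rintro ⟨c, -, hA⟩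
    rw [← hA]
    simp [Matrix.scalar_apply]
  · rintro ⟨h1, h2, h3⟩
    refine ⟨A.1 0 0, ?_, ?_⟩
    · have h4 := A.2
      rw [Matrix.det_fin_two, h1, h2, ← h3] at h4
      rw [Fintype.card_fin, pow_two]
      linear_combination h4
    · ext i j
      fin_cases i <;> fin_cases j <;> simp [Matrix.scalar_apply, h1, h2, h3]

theorem sq_entries {A : SL} : (A ^ 2).1 0 1 = A.1 0 1 * (A.1 0 0 + A.1 1 1) ∧
    (A ^ 2).1 1 0 = A.1 1 0 * (A.1 0 0 + A.1 1 1) ∧
    (A ^ 2).1 0 0 - (A ^ 2).1 1 1 = (A.1 0 0 - A.1 1 1) * (A.1 0 0 + A.1 1 1) := by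
  rw [pow_two, Matrix.SpecialLinearGroup.coe_mul]
  refine ⟨?_, ?_, ?_⟩ <;> simp [Matrix.mul_apply, Fin.sum_univ_two] <;> ring

/-- involutions of `PSL(2,13)` lift to matrices of trace `0` -/
theorem trace_eq_zero {A : SL} (h2 : (QuotientGroup.mk A : PSL) ^ 2 = 1) (h1 : (QuotientGroup.mk A : PSL) ≠ 1) :
    A.1 1 1 = - A.1 0 0 := by
  rw [← QuotientGroup.mk_pow, mk_eq_one_iff] at h2
  rw [Ne, mk_eq_one_iff] at h1
  obtain ⟨e1, e2, e3⟩ := sq_entries (A := A)
  rw [e1, e2, ← sub_eq_zero (a := (A ^ 2).1 0 0), e3] at h2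
  obtain ⟨f1, f2, f3⟩ := h2
  by_contra hne
  have h4 : A.1 0 0 + A.1 1 1 ≠ 0 := by
    intro h5
    exact hne (eq_neg_of_add_eq_zero_right h5)
  apply h1
  refine ⟨(mul_eq_zero.1 f1).resolve_right h4, (mul_eq_zero.1 f2).resolve_right h4,
    sub_eq_zero.1 ((mul_eq_zero.1 f3).resolve_right h4)⟩

set_option maxRecDepth 100000 in
theorem count : Fintype.card {x : ZMod 13 × ZMod 13 × ZMod 13 // x.1 * x.1 + x.2.1 * x.2.2 = -1} = 182 := by
  (refine of_decide_eq_true ?_; (try (rewrite [Cfsg.Agent.LsF.zadd_pat, Cfsg.Agent.LsF.zmul_pat, Cfsg.Agent.LsF.zneg_pat, Cfsg.Agent.LsF.zdecEq_eq, Cfsg.Agent.LsF.zFintype_eq, Cfsg.Agent.LsF.prodFintype_eq, Cfsg.Agent.LsF.tcard_eq, Cfsg.Agent.LsF.instDecEq_eq, Cfsg.Agent.LsF.decide_eq])); decide +kernel)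

set_option maxRecDepth 100000 in
theorem nil_dec : ∀ a b c : ZMod 13, a * a + b * c = -1 → ∃ x y z : ZMod 13, (x ≠ 0 ∨ y ≠ 0) ∧ x * x + y * z = 0 ∧
    2 * a * x + b * z + c * y = 0 := by
  (refine of_decide_eq_true ?_; (try (rewrite [Cfsg.Agent.LsF.zadd_pat, Cfsg.Agent.LsF.zmul_pat, Cfsg.Agent.LsF.zneg_pat, Cfsg.Agent.LsF.zdecEq_eq, Cfsg.Agent.LsF.zFintype_eq, Cfsg.Agent.LsF.dForall_eq, Cfsg.Agent.LsF.dExists_eq, Cfsg.Agent.LsF.dAnd_eq, Cfsg.Agent.LsF.dOr_eq, Cfsg.Agent.LsF.dNot_eq, Cfsg.Agent.LsF.dAllP_eq, Cfsg.Agent.LsF.decide_eq])); decide +kernel)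

/-- the matrix `1 + N`, `N` nilpotent -/
def un (x y z : ZMod 13) (h : x * x + y * z = 0) : SL :=
  ⟨!![1 + x, y; z, 1 - x], by rw [Matrix.det_fin_two_of]; linear_combination -h⟩

theorem un_pow (x y z : ZMod 13) (h : x * x + y * z = 0) (k : ℕ) :
    ((un x y z h ^ k : SL) : Matrix (Fin 2) (Fin 2) (ZMod 13)) = !![1 + k * x, k * y; k * z, 1 - k * x] := by
  induction k with
  | zero => ext i j; fin_cases i <;> fin_cases j <;> simp
  | succ k ih =>
    rw [pow_succ, Matrix.SpecialLinearGroup.coe_mul, ih]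
    change !![1 + k * x, k * y; k * z, 1 - k * x] * !![1 + x, y; z, 1 - x] = _
    ext i j
    fin_cases i <;> fin_cases j <;> simp [Matrix.mul_apply, Fin.sum_univ_two]
    · linear_combination (k : ZMod 13) * h
    · ring
    · ring
    · linear_combination (k : ZMod 13) * h

theorem un_pow_thirteen (x y z : ZMod 13) (h : x * x + y * z = 0) : un x y z h ^ 13 = 1 := by
  apply Subtype.ext
  rw [un_pow]
  have h13 : ((13 : ℕ) : ZMod 13) = 0 := by decide
  rw [h13]
  ext i j
  fin_cases i <;> fin_cases j <;> simp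

theorem un_ne (x y z : ZMod 13) (h : x * x + y * z = 0) (hne : x ≠ 0 ∨ y ≠ 0) :
    (QuotientGroup.mk (un x y z h) : PSL) ≠ 1 := by
  rw [Ne, mk_eq_one_iff]
  rintro ⟨h1, -, h3⟩
  change y = 0 at h1
  change 1 + x = 1 - x at h3
  rcases hne with hx | hy
  · apply hx
    have h4 : (2 : ZMod 13) * x = 0 := by linear_combination h3
    rcases mul_eq_zero.1 h4 with h5 | h5
    · exact absurd h5 (by decide)
    · exact h5
  · exact hy h1

/-- **every involution of `PSL(2,13)` inverts an element of order 13** -/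
theorem inv13' (s : PSL) (h2 : s ^ 2 = 1) (h1 : s ≠ 1) : ∃ z : PSL, z ^ 13 = 1 ∧ z ≠ 1 ∧ s * z * s⁻¹ = z ^ 12 := by
  obtain ⟨A, rfl⟩ := QuotientGroup.mk_surjective s
  have ht := trace_eq_zero h2 h1
  have hdet : A.1 0 0 * A.1 0 0 + A.1 0 1 * A.1 1 0 = -1 := by
    have h4 := A.2
    rw [Matrix.det_fin_two, ht] at h4
    linear_combination -h4
  obtain ⟨x, y, z, hne, hN, hA⟩ := nil_dec _ _ _ hdet
  refine ⟨QuotientGroup.mk (un x y z hN), ?_, un_ne x y z hN hne, ?_⟩
  · rw [← QuotientGroup.mk_pow, un_pow_thirteen]; rfl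
  · rw [mul_inv_eq_iff_eq_mul, ← QuotientGroup.mk_pow, ← QuotientGroup.mk_mul, ← QuotientGroup.mk_mul]
    refine congrArg (QuotientGroup.mk' (Subgroup.center SL)) ?_
    apply Subtype.ext
    rw [Matrix.SpecialLinearGroup.coe_mul, Matrix.SpecialLinearGroup.coe_mul, un_pow]
    have hA' : (A : Matrix (Fin 2) (Fin 2) (ZMod 13)) = !![A.1 0 0, A.1 0 1; A.1 1 0, - A.1 0 0] := by
      rw [← ht]
      ext i j; fin_cases i <;> fin_cases j <;> rfl
    have h12 : ((12 : ℕ) : ZMod 13) = -1 := by decide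
    rw [hA', h12]
    generalize A.1 0 0 = a at *
    generalize A.1 0 1 = b at *
    generalize A.1 1 0 = c at *
    change !![a, b; c, -a] * !![1 + x, y; z, 1 - x] = !![1 + -1 * x, -1 * y; -1 * z, 1 - -1 * x] * !![a, b; c, -a]
    ext i j
    fin_cases i <;> fin_cases j <;> simp [Matrix.mul_apply, Fin.sum_univ_two]
    · linear_combination hA
    · ring
    · ring
    · linear_combination hA

/-- **at most 182 involutions** (in fact 91) -/
theorem inv_count' : Nat.card {s : PSL // s ^ 2 = 1 ∧ s ≠ 1} ≤ 182 := by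
  rw [← count, ← Nat.card_eq_fintype_card]
  have hlift : ∀ s : {s : PSL // s ^ 2 = 1 ∧ s ≠ 1}, ∃ A : SL, (QuotientGroup.mk A : PSL) = s.1 := fun s =>
    QuotientGroup.mk_surjective s.1
  choose A hA using hlift
  have ht : ∀ s, (A s).1 1 1 = - (A s).1 0 0 := fun s =>
    trace_eq_zero (by rw [hA]; exact s.2.1) (by rw [hA]; exact s.2.2)
  have hd : ∀ s, (A s).1 0 0 * (A s).1 0 0 + (A s).1 0 1 * (A s).1 1 0 = -1 := by
    intro s
    have h4 := (A s).2
    rw [Matrix.det_fin_two, ht] at h4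
    linear_combination -h4
  refine Nat.card_le_card_of_injective (fun s => (⟨((A s).1 0 0, (A s).1 0 1, (A s).1 1 0), hd s⟩ :
    {x : ZMod 13 × ZMod 13 × ZMod 13 // x.1 * x.1 + x.2.1 * x.2.2 = -1})) ?_
  intro s t hst
  have h1 := congrArg Subtype.val hst
  simp only [Prod.mk.injEq] at h1
  obtain ⟨e1, e2, e3⟩ := h1
  have h2 : A s = A t := by
    apply Subtype.ext
    ext i j
    fin_cases i <;> fin_cases j
    · exact e1
    · exact e2
    · exact e3
    · change (A s).1 1 1 = (A t).1 1 1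
      rw [ht, ht, e1]
  exact Subtype.ext (by rw [← hA, ← hA, h2])

/-- a Klein four group -/
theorem v4' : ∃ a b : PSL, a ^ 2 = 1 ∧ b ^ 2 = 1 ∧ a * b = b * a ∧ a ≠ 1 ∧ b ≠ 1 ∧ a ≠ b := by
  let A : SL := ⟨!![5, 0; 0, 8], by decide⟩
  let B : SL := ⟨!![0, 1; -1, 0], by decide⟩
  have hab : (QuotientGroup.mk A : PSL) * QuotientGroup.mk B = QuotientGroup.mk B * QuotientGroup.mk A := by
    rw [← QuotientGroup.mk_mul, ← QuotientGroup.mk_mul, ← inv_mul_eq_one, ← QuotientGroup.mk_inv,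
      ← QuotientGroup.mk_mul, mk_eq_one_iff]
    decide
  refine ⟨QuotientGroup.mk A, QuotientGroup.mk B, ?_, ?_, hab, ?_, ?_, ?_⟩
  · rw [← QuotientGroup.mk_pow, mk_eq_one_iff]; decide
  · rw [← QuotientGroup.mk_pow, mk_eq_one_iff]; decide
  · rw [Ne, mk_eq_one_iff]; decide
  · rw [Ne, mk_eq_one_iff]; decide
  · intro h
    rw [← inv_mul_eq_one, ← QuotientGroup.mk_inv, ← QuotientGroup.mk_mul, mk_eq_one_iff] at h
    revert h
    decide

/-- a Frobenius group of order 39 -/
theorem frob13' : ∃ z y : PSL, z ^ 13 = 1 ∧ z ≠ 1 ∧ y ^ 3 = 1 ∧ y * z * y⁻¹ = z ^ 9 := by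
  let Y : SL := ⟨!![3, 0; 0, 9], by decide⟩
  have hN : (0 : ZMod 13) * 0 + 1 * 0 = 0 := by decide
  refine ⟨QuotientGroup.mk (un 0 1 0 hN), QuotientGroup.mk Y, ?_, un_ne _ _ _ _ (Or.inr (by decide)), ?_, ?_⟩
  · rw [← QuotientGroup.mk_pow, un_pow_thirteen]; rfl
  · rw [← QuotientGroup.mk_pow, mk_eq_one_iff]; decide
  · rw [mul_inv_eq_iff_eq_mul, ← QuotientGroup.mk_pow, ← QuotientGroup.mk_mul, ← QuotientGroup.mk_mul]
    refine congrArg (QuotientGroup.mk' (Subgroup.center SL)) ?_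
    apply Subtype.ext
    rw [Matrix.SpecialLinearGroup.coe_mul, Matrix.SpecialLinearGroup.coe_mul, un_pow]
    change !![3, 0; 0, 9] * !![1 + 0, 1; 0, 1 - 0] = _ * !![3, 0; 0, 9]
    decide

/-! ### The abstract group -/

theorem inv13 (hS : H912.Bd.IsL 2 13 S) (s : S) (h2 : s ^ 2 = 1) (h1 : s ≠ 1) :
    ∃ z : S, z ^ 13 = 1 ∧ z ≠ 1 ∧ s * z * s⁻¹ = z ^ 12 := by
  obtain ⟨e⟩ := exists_iso hS
  obtain ⟨z, hz, hz1, hzz⟩ := inv13' (e s) (by rw [← map_pow, h2, map_one]) (by simpa using h1)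
  refine ⟨e.symm z, by rw [← map_pow, hz, map_one], by simpa using hz1, ?_⟩
  apply e.injective
  simpa using hzz

theorem inv_count (hS : H912.Bd.IsL 2 13 S) : Nat.card {s : S // s ^ 2 = 1 ∧ s ≠ 1} ≤ 182 := by
  obtain ⟨e⟩ := exists_iso hS
  refine (le_of_eq ?_).trans inv_count'
  refine Nat.card_congr (e.toEquiv.subtypeEquiv fun s => ?_)
  change _ ↔ (e s) ^ 2 = 1 ∧ e s ≠ 1
  rw [← map_pow, map_eq_one_iff e e.injective, Ne, Ne, map_eq_one_iff e e.injective]

theorem v4 (hS : H912.Bd.IsL 2 13 S) :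
    ∃ a b : S, a ^ 2 = 1 ∧ b ^ 2 = 1 ∧ a * b = b * a ∧ a ≠ 1 ∧ b ≠ 1 ∧ a ≠ b := by
  obtain ⟨e⟩ := exists_iso hS
  obtain ⟨a, b, h1, h2, h3, h4, h5, h6⟩ := v4'
  refine ⟨e.symm a, e.symm b, ?_, ?_, ?_, ?_, ?_, ?_⟩
  · rw [← map_pow, h1, map_one]
  · rw [← map_pow, h2, map_one]
  · rw [← map_mul, h3, map_mul]
  · simpa using h4
  · simpa using h5
  · simpa using h6

theorem frob13 (hS : H912.Bd.IsL 2 13 S) : ∃ z y : S, z ^ 13 = 1 ∧ z ≠ 1 ∧ y ^ 3 = 1 ∧ y * z * y⁻¹ = z ^ 9 := by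
  obtain ⟨e⟩ := exists_iso hS
  obtain ⟨z, y, h1, h2, h3, h4⟩ := frob13'
  refine ⟨e.symm z, e.symm y, ?_, ?_, ?_, ?_⟩
  · rw [← map_pow, h1, map_one]
  · simpa using h2
  · rw [← map_pow, h3, map_one]
  · rw [← map_inv, ← map_mul, ← map_mul, h4, map_pow]

end Cfsg.Agent.H742.HT.T13
end

-- part: H742/HT/L213
section
/-!
# S3512, quasisimple rows: `L / Z(L) = PSL(2,13)` (helper742)
-/

set_option autoImplicit false
set_option linter.unusedSectionVars false

universe u w

namespace Cfsg.Agent.H742.HT.L213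

open Cfsg.Agent Cfsg.Agent.H828.HT Cfsg.Agent.H742.HT Cfsg.Agent.H192.Ht Module

/-! ### The determinant of an involution -/

theorem det_involution {F W : Type*} [Field F] [AddCommGroup W] [Module F W] [Module.Finite F W]
    (t : W →ₗ[F] W) (ht : ∀ w, t (t w) = w) :
    LinearMap.det t = (-1) ^ (finrank F W - finrank F (LinearMap.ker (t - LinearMap.id))) := by
  set U := LinearMap.ker (t - LinearMap.id) with hU
  have hmem : ∀ w, w ∈ U ↔ t w = w := by
    intro w
    rw [hU, LinearMap.mem_ker, LinearMap.sub_apply, LinearMap.id_apply, sub_eq_zero]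
  have hinv : U ≤ U.comap t := by
    intro w hw
    rw [Submodule.mem_comap, (hmem w).1 hw]
    exact hw
  rw [LinearMap.det_eq_det_mul_det U t hinv]
  have h1 : t.restrict hinv = LinearMap.id := by
    ext w
    exact (hmem w).1 w.2
  have h2 : U.mapQ U t hinv = (-1 : F) • LinearMap.id := by
    ext w
    change (Submodule.Quotient.mk (t w) : W ⧸ U) = (-1 : F) • Submodule.Quotient.mk w
    rw [← Submodule.Quotient.mk_smul, Submodule.Quotient.eq, hmem, neg_smul, one_smul, sub_neg_eq_add, map_add, ht,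
      add_comm]
  rw [h1, h2, LinearMap.det_id, one_mul, LinearMap.det_smul, LinearMap.det_id, mul_one]
  congr 1
  have := Submodule.finrank_quotient_add_finrank U
  omega

variable {p : ℕ} [Fact p.Prime] {K : Type w} [Field K] {V : Type u} [AddCommGroup V] [Module (ZMod p) V] [Finite V]
    [Module K V] {G L : Subgroup (V ≃ₗ[ZMod p] V)} {h : ℕ}

/-- an element `t` of `L` with `t ^ 2 = 1` has even `n - dim C_V(t)`, `p` odd -/
theorem even_of_involution (H : QL p K V G L h) (hp2 : p ≠ 2) {t : L} (ht : t ^ 2 = 1) {c : ℕ}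
    (hc : Nat.card (fx (t : V ≃ₗ[ZMod p] V)) = Nat.card K ^ c) : Even (finrank K V - c) := by
  have hK := QN.finiteK H
  have : Module.Finite K V := QN.finiteDim H
  have h1 := QN.det_toK H t
  have h2 := congrArg (fun u : Kˣ => (u : K)) h1
  simp only [LinearEquiv.coe_det, Units.val_one] at h2
  have h3 := det_involution ((QN.toK H t : V ≃ₗ[K] V) : V →ₗ[K] V) (by
    intro w
    change (t : V ≃ₗ[ZMod p] V) ((t : V ≃ₗ[ZMod p] V) w) = w
    have h4 : ((t : V ≃ₗ[ZMod p] V)) ^ 2 = 1 := congrArg Subtype.val ht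
    have h5 := congrArg (fun e : V ≃ₗ[ZMod p] V => e w) h4
    rw [pow_two] at h5
    exact h5)
  rw [h2] at h3
  have h4 : Nat.card (fx (t : V ≃ₗ[ZMod p] V)) =
      Nat.card K ^ finrank K (LinearMap.ker (((QN.toK H t : V ≃ₗ[K] V) : V →ₗ[K] V) - LinearMap.id)) := by
    rw [← Module.natCard_eq_pow_finrank]
    refine Nat.card_congr (Equiv.subtypeEquivRight fun v => ?_)
    change v ∈ fx (t : V ≃ₗ[ZMod p] V) ↔ v ∈ LinearMap.ker _
    rw [mem_fx, LinearMap.mem_ker, LinearMap.sub_apply, LinearMap.id_apply, sub_eq_zero]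
    rfl
  rw [h4] at hc
  have h5 := Nat.pow_right_injective (QN.two_le_card H) hc
  rw [h5] at h3
  by_contra hodd
  rw [Nat.not_even_iff_odd] at hodd
  rw [hodd.neg_one_pow] at h3
  have h6 : (2 : K) = 0 := by linear_combination h3
  have h7 := natCast_ne_zero_of (K := K) (p := p) (QN.exists_ne H) Nat.prime_two hp2.symm
  exact h7 (by exact_mod_cast h6)

/-! ### The tools for `PSL(2,13)` -/

/-- `t ∈ L` of order 2 outside the centre: `|C_V(t)| ^ 2 = |V|` -/
theorem fx_inv (H : QL p K V G L h) (hS : H912.Bd.IsL 2 13 (L ⧸ Subgroup.center L)) (hp13 : 13 ≠ p)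
    (h13 : ¬ 13 ∣ h) (hc13 : Nat.Coprime 13 (Nat.card (Subgroup.center L))) {t : L} (ht : t ^ 2 = 1)
    (ht1 : t ∉ Subgroup.center L) :
    ∃ c, 2 * c = finrank K V ∧ Nat.card (fx (t : V ≃ₗ[ZMod p] V)) = Nat.card K ^ c := by
  have hf : Fact (Nat.Prime 13) := ⟨by norm_num⟩
  obtain ⟨zb, hz, hz1, hzz⟩ := T13.inv13 hS (QuotientGroup.mk t) (by rw [← QuotientGroup.mk_pow, ht]; rfl)
    (fun hc => ht1 ((QuotientGroup.eq_one_iff t).1 hc))
  obtain ⟨z, hz', rfl⟩ := Lift.lift_pow hc13 zb hz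
  have h1 := Lift.lift_rel hc13 hz' hzz
  have hz2 : z ≠ 1 := by
    rintro rfl
    exact hz1 rfl
  obtain ⟨c, hc, hc', -⟩ := frob H hf.out hp13 (z := z) (y := t) (a := 12) (e := 2) hz' h1
    (by
      refine orderOf_eq_prime ?_ ?_
      · decide
      · decide) (by norm_num) ht
    (fun v hv => fpf_of_not_dvd H.half h13 (H.le z.2) (congrArg Subtype.val hz')
      (fun hc => hz2 (Subtype.ext hc)) hv)
  exact ⟨c, hc, hc'⟩

/-- `p = 2`, `|V| = 4096` -/
theorem two (H : QL p K V G L h) (hS : H912.Bd.IsL 2 13 (L ⧸ Subgroup.center L)) (hp13 : 13 ≠ p)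
    (h13 : ¬ 13 ∣ h) (hc13 : Nat.Coprime 13 (Nat.card (Subgroup.center L)))
    (hc2 : Nat.Coprime 2 (Nat.card (Subgroup.center L))) {m : ℕ} (hm : m * h = Nat.card G) (h2m : ¬ 2 ∣ m)
    (hV : Nat.card V = 4096) (hq : Nat.card K ^ finrank K V = 4096) : False := by
  classical
  have h0 : 0 < h := Cfsg.Agent.H19.HT.h_pos H.half (QN.exists_ne H).choose_spec
  let I := {t : L // t ^ 2 = 1 ∧ t ≠ 1}
  have hI0 : ∀ t : I, t.1 ∉ Subgroup.center L := by
    intro t hc
    apply t.2.2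
    refine Lift.eq_of_mk hc2 t.2.1 (one_pow 2) ?_
    rw [(QuotientGroup.eq_one_iff t.1).2 hc]; rfl
  have hI : Nat.card I ≤ 182 := by
    refine le_trans ?_ (T13.inv_count hS)
    refine Nat.card_le_card_of_injective (fun t : I => (⟨QuotientGroup.mk t.1, by
      rw [← QuotientGroup.mk_pow, t.2.1]; rfl, fun hc => hI0 t ((QuotientGroup.eq_one_iff t.1).1 hc)⟩ :
        {s : L ⧸ Subgroup.center L // s ^ 2 = 1 ∧ s ≠ 1})) ?_
    intro s t hst
    exact Subtype.ext (Lift.eq_of_mk hc2 s.2.1 t.2.1 (congrArg Subtype.val hst))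
  have hfx : ∀ t : I, Nat.card (fx (t.1 : V ≃ₗ[ZMod p] V)) = 64 := by
    intro t
    obtain ⟨c, hc, hc'⟩ := fx_inv H hS hp13 h13 hc13 t.2.1 (hI0 t)
    rw [← hc, mul_comm, pow_mul, ← hc'] at hq
    have h1 : Nat.card (fx (t.1 : V ≃ₗ[ZMod p] V)) ^ 2 = 64 ^ 2 := by rw [hq]; norm_num
    exact Nat.pow_left_injective (n := 2) (by norm_num) h1
  -- the four group
  obtain ⟨ab, bb, ha, hb, hab, ha1, hb1, hne⟩ := T13.v4 hS
  obtain ⟨a, ha', rfl⟩ := Lift.lift_pow hc2 ab ha
  obtain ⟨b, hb', rfl⟩ := Lift.lift_pow hc2 bb hb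
  have hcomm := Lift.lift_comm hc2 hb' hab
  have ha2 : a ≠ 1 := by rintro rfl; exact ha1 rfl
  have hb2 : b ≠ 1 := by rintro rfl; exact hb1 rfl
  have hab2 : a ≠ b := by rintro rfl; exact hne rfl
  have hc2' : (a * b) ^ 2 = 1 := by
    have : Commute a b := hcomm
    rw [this.mul_pow, ha', hb', one_mul]
  have hab1 : a * b ≠ 1 := by
    intro h1
    apply hab2
    rw [mul_eq_one_iff_eq_inv] at h1
    rw [h1]
    have : b * b = 1 := by rw [← pow_two]; exact hb'
    exact inv_eq_of_mul_eq_one_left this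
  let f : Fin 3 → L := ![a, b, a * b]
  have hf2 : ∀ i, f i ^ 2 = 1 ∧ f i ≠ 1 := by
    intro i
    fin_cases i
    · exact ⟨ha', ha2⟩
    · exact ⟨hb', hb2⟩
    · exact ⟨hc2', hab1⟩
  have hfinj : Function.Injective f := by
    intro i j hij
    fin_cases i <;> fin_cases j <;> try rfl
    · exact absurd hij hab2
    · exact absurd (mul_eq_left.1 hij.symm) hb2
    · exact absurd hij.symm hab2
    · exact absurd (mul_eq_right.1 hij.symm) ha2
    · exact absurd (mul_eq_left.1 hij) hb2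
    · exact absurd (mul_eq_right.1 hij) ha2
  -- the subgroup
  let Q : Subgroup L := Subgroup.closure {a, b}
  have hQ : ∀ x ∈ Q, x ^ 2 = 1 ∧ x * a = a * x ∧ x * b = b * x := by
    intro x hx
    refine Subgroup.closure_induction (p := fun x _ => x ^ 2 = 1 ∧ x * a = a * x ∧ x * b = b * x) ?_ ?_ ?_ ?_ hx
    · rintro x (rfl | rfl)
      · exact ⟨ha', rfl, hcomm⟩
      · exact ⟨hb', hcomm.symm, rfl⟩
    · exact ⟨one_pow 2, by simp, by simp⟩
    · rintro x y hx hy ⟨hx1, hx2, hx3⟩ ⟨hy1, hy2, hy3⟩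
      have h5 : Q ≤ Subgroup.centralizer {x} := by
        rw [Subgroup.closure_le]
        rintro _ (rfl | rfl)
        · exact Subgroup.mem_centralizer_singleton_iff.2 hx2.symm
        · exact Subgroup.mem_centralizer_singleton_iff.2 hx3.symm
      have h6 : Commute x y := (Subgroup.mem_centralizer_singleton_iff.1 (h5 hy)).symm
      exact ⟨by rw [h6.mul_pow, hx1, hy1, one_mul], by rw [mul_assoc, hy2, ← mul_assoc, hx2, mul_assoc],
        by rw [mul_assoc, hy3, ← mul_assoc, hx3, mul_assoc]⟩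
    · rintro x hx ⟨hx1, hx2, hx3⟩
      have h5 : x⁻¹ = x := inv_eq_of_mul_eq_one_left (by rw [← pow_two]; exact hx1)
      rw [h5]
      exact ⟨hx1, hx2, hx3⟩
  have hfQ : ∀ i, f i ∈ Q := by
    have haQ : a ∈ Q := Subgroup.subset_closure (Or.inl rfl)
    have hbQ : b ∈ Q := Subgroup.subset_closure (Or.inr rfl)
    intro i
    fin_cases i
    · exact haQ
    · exact hbQ
    · exact Q.mul_mem haQ hbQ
  have hQp : IsPGroup 2 (Q.map L.subtype) := by
    rintro ⟨_, x, hx, rfl⟩
    refine ⟨1, Subtype.ext ?_⟩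
    rw [pow_one]
    change (L.subtype x) ^ 2 = 1
    rw [← map_pow, (hQ x hx).1, map_one]
  have key : ∀ v : {v : V // v ≠ 0}, ∃ l : L, ∀ i, ((l⁻¹ * f i * l : L) : V ≃ₗ[ZMod p] V) v.1 = v.1 := by
    intro v
    obtain ⟨l, hl, hlv⟩ := Fus.exists_fixed_subgroup H.half h0 hm H.le H.nrm Nat.prime_two h2m (Q.map L.subtype)
      (by rintro _ ⟨x, -, rfl⟩; exact x.2) hQp v.2
    refine ⟨⟨l, hl⟩, fun i => ?_⟩
    have h1 := hlv (f i : V ≃ₗ[ZMod p] V) ⟨f i, hfQ i, rfl⟩
    change l⁻¹ ((f i : V ≃ₗ[ZMod p] V) (l v.1)) = v.1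
    rw [h1]
    change (l⁻¹ * l) v.1 = v.1
    rw [inv_mul_cancel]; rfl
  choose l hl using key
  let g : {v : V // v ≠ 0} → Fin 3 → I := fun v i => ⟨(l v)⁻¹ * f i * l v, by
    have h1 : (l v)⁻¹ * f i * l v = (l v)⁻¹ * f i * (l v)⁻¹⁻¹ := by rw [inv_inv]
    constructor
    · rw [h1, conj_pow, (hf2 i).1, mul_one, mul_inv_cancel]
    · intro h2
      rw [h1, conj_eq_one_iff] at h2
      exact (hf2 i).2 h2⟩
  have hlow : Nat.card {v : V // v ≠ 0} * 3 ≤ Nat.card (Σ t : I, {v : {v : V // v ≠ 0} // (t.1 : V ≃ₗ[ZMod p] V) v.1 = v.1}) := by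
    have h1 : Nat.card ({v : V // v ≠ 0} × Fin 3) = Nat.card {v : V // v ≠ 0} * 3 := by
      rw [Nat.card_prod, Nat.card_eq_fintype_card (α := Fin 3), Fintype.card_fin]
    rw [← h1]
    refine Nat.card_le_card_of_injective (fun x => ⟨g x.1 x.2, ⟨x.1, hl x.1 x.2⟩⟩) ?_
    rintro ⟨v, i⟩ ⟨w, j⟩ hvw
    have h2 : g v i = g w j := (Sigma.mk.inj_iff.1 hvw).1
    have h3 : v = w := by
      have h4 : ∀ (s t : I) (x : {v : {v : V // v ≠ 0} // (s.1 : V ≃ₗ[ZMod p] V) v.1 = v.1})
          (y : {v : {v : V // v ≠ 0} // (t.1 : V ≃ₗ[ZMod p] V) v.1 = v.1}), s = t → HEq x y → x.1 = y.1 := by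
        rintro s _ x y rfl hxy
        rw [eq_of_heq hxy]
      exact h4 _ _ _ _ h2 (Sigma.mk.inj_iff.1 hvw).2
    subst h3
    have h5 : (l v)⁻¹ * f i * l v = (l v)⁻¹ * f j * l v := congrArg Subtype.val h2
    have h6 : f i = f j := by simpa using h5
    rw [hfinj h6]
  rw [Nat.card_sigma] at hlow
  have hup : ∀ t : I, Nat.card {v : {v : V // v ≠ 0} // (t.1 : V ≃ₗ[ZMod p] V) v.1 = v.1} = 63 := by
    intro t
    have h1 := Fus.card_sub_ne_zero (fx (t.1 : V ≃ₗ[ZMod p] V)) (fun v => (t.1 : V ≃ₗ[ZMod p] V) v = v)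
      (fun v => mem_fx.symm)
    rw [hfx] at h1
    omega
  rw [Finset.sum_congr rfl (fun t _ => hup t), Finset.sum_const, smul_eq_mul, Finset.card_univ,
    ← Nat.card_eq_fintype_card] at hlow
  have h1 := Fus.card_ne_zero (V := V)
  have h2 : Nat.card I ≤ 182 := hI
  have h3 : Nat.card I * 63 ≤ 182 * 63 := Nat.mul_le_mul_right _ h2
  rw [hV] at h1
  omega

/-- `p = 3`, `|V| = 3 ^ 12` -/
theorem three (H : QL p K V G L h) (hS : H912.Bd.IsL 2 13 (L ⧸ Subgroup.center L)) (hp13 : 13 ≠ p)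
    (h13 : ¬ 13 ∣ h) (hc13 : Nat.Coprime 13 (Nat.card (Subgroup.center L)))
    (hc3 : Nat.Coprime 3 (Nat.card (Subgroup.center L))) {m : ℕ} (hm : m * h = Nat.card G) (h3m : ¬ 3 ∣ m)
    (hV : Nat.card V = 531441) : False := by
  classical
  have h0 : 0 < h := Cfsg.Agent.H19.HT.h_pos H.half (QN.exists_ne H).choose_spec
  have hf : Fact (Nat.Prime 13) := ⟨by norm_num⟩
  obtain ⟨zb, yb, hz, hz1, hy, hyz⟩ := T13.frob13 hS
  obtain ⟨z, hz', rfl⟩ := Lift.lift_pow hc13 zb hz
  obtain ⟨y, hy', rfl⟩ := Lift.lift_pow hc3 yb hy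
  have h1 := Lift.lift_rel hc13 hz' hyz
  have hz2 : z ≠ 1 := by
    rintro rfl
    exact hz1 rfl
  obtain ⟨c, -, -, hc⟩ := frob H hf.out hp13 (z := z) (y := y) (a := 9) (e := 3) hz' h1
    (by
      have : Fact (Nat.Prime 3) := ⟨by norm_num⟩
      refine orderOf_eq_prime ?_ ?_
      · decide
      · decide) (by norm_num) hy'
    (fun v hv => fpf_of_not_dvd H.half h13 (H.le z.2) (congrArg Subtype.val hz')
      (fun hc => hz2 (Subtype.ext hc)) hv)
  have hfx : Nat.card (fx (y : V ≃ₗ[ZMod p] V)) = 81 := by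
    have h2 : Nat.card (fx (y : V ≃ₗ[ZMod p] V)) ^ 3 = 81 ^ 3 := by rw [hc, hV]; norm_num
    exact Nat.pow_left_injective (n := 3) (by norm_num) h2
  have hy3 : (y : V ≃ₗ[ZMod p] V) ^ 3 ^ 1 = 1 := by
    rw [pow_one]
    exact congrArg Subtype.val hy'
  have hcov := Fus.coverage H.half h0 hm H.le H.nrm Nat.prime_three h3m y.2 hy3 (N := 1092) (by
    rw [← T13.card_S hS]
    have hch : ∀ Q : {Q : Subgroup (V ≃ₗ[ZMod p] V) // ∃ l ∈ L, Q = Subgroup.zpowers (l * y * l⁻¹)},
        ∃ l : L, Q.1 = Subgroup.zpowers ((l * y * l⁻¹ : L) : V ≃ₗ[ZMod p] V) := by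
      rintro ⟨_, l, hl, rfl⟩
      exact ⟨⟨l, hl⟩, rfl⟩
    choose l hl using hch
    have hfinS : Finite (L ⧸ Subgroup.center L) := inferInstance
    refine Nat.card_le_card_of_injective (fun Q => (QuotientGroup.mk (l Q * y * (l Q)⁻¹) : L ⧸ Subgroup.center L)) ?_
    intro Q R hQR
    have h3 : ∀ Q, (l Q * y * (l Q)⁻¹) ^ 3 = 1 := by
      intro Q
      rw [conj_pow, hy', mul_one, mul_inv_cancel]
    have h4 := Lift.eq_of_mk hc3 (h3 Q) (h3 R) hQR
    exact Subtype.ext (by rw [hl Q, hl R, h4]))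
  rw [hV, hfx] at hcov
  omega

/-- `p = 3`, `|V| = 3 ^ 6`: `m` is divisible by 8 -/
theorem six (H : QL p K V G L h) (hS : H912.Bd.IsL 2 13 (L ⧸ Subgroup.center L)) (hp13 : 13 ≠ p) (hp2 : p ≠ 2)
    (h13 : ¬ 13 ∣ h) (hc13 : Nat.Coprime 13 (Nat.card (Subgroup.center L))) {m : ℕ} (hm : m * h = Nat.card G)
    (hn : finrank K V = 6) : 8 ∣ m := by
  have h0 : 0 < h := Cfsg.Agent.H19.HT.h_pos H.half (QN.exists_ne H).choose_spec
  have hno : ∀ t : L, t ^ 2 = 1 → t ∈ Subgroup.center L := by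
    intro t ht
    by_contra htc
    obtain ⟨c, hc, hc'⟩ := fx_inv H hS hp13 h13 hc13 ht htc
    have h1 := even_of_involution H hp2 ht hc'
    have h2 : finrank K V - c = 3 := by omega
    rw [h2] at h1
    exact absurd h1 (by decide)
  -- the centre has even order
  have hZ : 2 ∣ Nat.card (Subgroup.center L) := by
    by_contra hc
    have hc2 : Nat.Coprime 2 (Nat.card (Subgroup.center L)) := (Nat.Prime.coprime_iff_not_dvd Nat.prime_two).2 hc
    obtain ⟨ab, bb, ha, hb, hab, ha1, hb1, hne⟩ := T13.v4 hS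
    obtain ⟨a, ha', rfl⟩ := Lift.lift_pow hc2 ab ha
    exact ha1 ((QuotientGroup.eq_one_iff a).2 (hno a ha'))
  have h8 : 8 ∣ Nat.card L := by
    have h1 := (Subgroup.card_eq_card_quotient_mul_card_subgroup (Subgroup.center L))
    rw [T13.card_S hS] at h1
    obtain ⟨c, hc⟩ := hZ
    rw [h1, hc]
    exact ⟨273 * c, by ring⟩
  obtain ⟨v, hv⟩ := QN.exists_ne H
  obtain ⟨k, hk, hk'⟩ := Fus.index_dvd H.half h0 hm H.le H.nrm hv
  refine dvd_trans ?_ hk
  rw [← hk'] at h8
  have hodd : ¬ 2 ∣ Nat.card (MulAction.stabilizer L v) := by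
    intro hc
    have : Fact (Nat.Prime 2) := ⟨Nat.prime_two⟩
    obtain ⟨t, ht⟩ := exists_prime_orderOf_dvd_card' 2 hc
    have ht2 : (t : L) ^ 2 = 1 := by
      have h1 := pow_orderOf_eq_one t
      rw [ht] at h1
      exact congrArg Subtype.val h1
    have ht1 : (t : L) ≠ 1 := by
      intro h1
      have h2 : t = 1 := Subtype.ext h1
      rw [h2, orderOf_one] at ht
      omega
    obtain ⟨c, hc⟩ := Lift.center_scal H (hno t ht2)
    have h1 : ((t : L) : V ≃ₗ[ZMod p] V) v = v := t.2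
    rw [hc] at h1
    have h2 : (c - 1) • v = 0 := by rw [sub_smul, one_smul, h1, sub_self]
    rcases smul_eq_zero.1 h2 with h3 | h3
    · apply ht1
      apply Subtype.ext
      ext w
      rw [hc, sub_eq_zero.1 h3, one_smul]; rfl
    · exact hv h3
  have h3 : Nat.Coprime 8 (Nat.card (MulAction.stabilizer L v)) := by
    have : Nat.Coprime (2 ^ 3) (Nat.card (MulAction.stabilizer L v)) :=
      Nat.Coprime.pow_left 3 ((Nat.Prime.coprime_iff_not_dvd Nat.prime_two).2 hodd)
    exact this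
  exact h3.dvd_of_dvd_mul_right h8

/-- `p = 3`, `|V| = 3 ^ 6`, `|K| = 3`: `7` divides `m` -/
theorem seven (H : QL p K V G L h) (hS : H912.Bd.IsL 2 13 (L ⧸ Subgroup.center L)) {m : ℕ}
    (hm : m * h = Nat.card G) (hn : finrank K V = 6) (hq : Nat.card K = 3) : 7 ∣ m := by
  have h0 : 0 < h := Cfsg.Agent.H19.HT.h_pos H.half (QN.exists_ne H).choose_spec
  have hK := QN.finiteK H
  by_contra h7m
  obtain ⟨v, hv⟩ := QN.exists_ne H
  have : Fact (Nat.Prime 7) := ⟨by norm_num⟩
  have h7 : 7 ∣ Nat.card L := by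
    have h1 := (Subgroup.card_eq_card_quotient_mul_card_subgroup (Subgroup.center L))
    rw [T13.card_S hS] at h1
    rw [h1]
    exact ⟨156 * Nat.card (Subgroup.center L), by ring⟩
  have h2 := Fus.part_dvd_stab H.half h0 hm H.le H.nrm h7
    ((Nat.Prime.coprime_iff_not_dvd (by norm_num)).2 h7m) hv
  obtain ⟨t, ht⟩ := exists_prime_orderOf_dvd_card' 7 h2
  have ht7 : (t : L) ^ 7 = 1 := by
    have h1 := pow_orderOf_eq_one t
    rw [ht] at h1
    exact congrArg Subtype.val h1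
  have ht1 : ((t : L) : V ≃ₗ[ZMod p] V) ≠ 1 := by
    intro h1
    have h2 : t = 1 := Subtype.ext (Subtype.ext h1)
    rw [h2, orderOf_one] at ht
    omega
  obtain ⟨c, hc, hc1, hc2⟩ := Fus.card_fx (K := K) H.lin (t : L).2
  have hc3 := hc2 ht1
  have hvf : v ∈ fx ((t : L) : V ≃ₗ[ZMod p] V) := mem_fx.2 t.2
  have hcp : c ≠ 0 := by
    rintro rfl
    rw [pow_zero] at hc
    have h3 := Finite.card_le_one_iff_subsingleton.1 hc.le
    have h4 : (⟨v, hvf⟩ : fx ((t : L) : V ≃ₗ[ZMod p] V)) = 0 := Subsingleton.elim _ _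
    exact hv (congrArg Subtype.val h4)
  -- the congruence modulo 7
  have hmod : Nat.card V ≡ Nat.card (fx ((t : L) : V ≃ₗ[ZMod p] V)) [MOD 7] := by
    let P := Subgroup.zpowers ((t : L) : V ≃ₗ[ZMod p] V)
    have hP : IsPGroup 7 P := Fus.isPGroup_zpowers (s := 7) (k := 1) (by
      rw [pow_one]
      exact congrArg Subtype.val ht7)
    have h3 := hP.card_modEq_card_fixedPoints V
    have h4 : Nat.card (MulAction.fixedPoints P V) = Nat.card (fx ((t : L) : V ≃ₗ[ZMod p] V)) := by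
      rw [← Fus.fxs_zpowers]
      refine Nat.card_congr (Equiv.subtypeEquivRight fun w => ?_)
      change w ∈ MulAction.fixedPoints P V ↔ w ∈ Fus.fxs P
      rw [Fus.mem_fxs]
      exact ⟨fun h g hg => h ⟨g, hg⟩, fun h g => h g g.2⟩
    rwa [h4] at h3
  rw [QN.card_V H, hn, hq, hc, hq] at hmod
  rw [hn] at hc3
  have : c = 1 ∨ c = 2 ∨ c = 3 ∨ c = 4 ∨ c = 5 := by omega
  rcases this with rfl | rfl | rfl | rfl | rfl <;> exact absurd hmod (by decide)

/-! ### The row -/

/-- **S3512, the row `PSL(2,13)`** -/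
theorem row (H : QL p K V G L h) (hS : H912.Bd.IsL 2 13 (L ⧸ Subgroup.center L)) {m : ℕ} (hm : m * h = Nat.card G)
    (hpm : ¬ p ∣ m)
    (hl : (finrank K V, Nat.card K, m) ∈ [(6, 4, 819), (6, 4, 273), (12, 2, 273), (6, 3, 364), (6, 3, 182),
      (6, 3, 104), (6, 3, 91), (6, 9, 1456), (12, 3, 1456)]) : False := by
  have hG := QN.card_G_dvd H
  rw [T13.card_mulAut hS] at hG
  obtain ⟨k, hk, hk0⟩ := QN.exists_card H
  have hp : p.Prime := Fact.out
  have hpq : p ∣ Nat.card K := by rw [hk]; exact dvd_pow_self _ hk0.ne'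
  have h13p : Nat.Prime 13 := by norm_num
  have hV := QN.card_V H
  have hcc : ∀ r : ℕ, r.Prime → ¬ (r ∣ finrank K V ∧ r ∣ Nat.card K - 1) →
      r.Coprime (Nat.card (Subgroup.center L)) := fun r hr h => Lift.coprime_center H hr h
  have hn13 : ∀ d : ℕ, m = 13 * d → ¬ 13 ∣ 168 * (Nat.card K - 1) → ¬ 13 ∣ h := by
    rintro d rfl hd ⟨j, rfl⟩
    apply hd
    rw [← hm] at hG
    have h1 : 13 * (13 * (d * j)) ∣ 13 * (168 * (Nat.card K - 1)) := by
      convert hG using 1
      · ring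
      · ring
    exact (Dvd.intro _ rfl).trans ((Nat.mul_dvd_mul_iff_left (by norm_num)).1 h1)
  simp only [List.mem_cons, Prod.mk.injEq, List.not_mem_nil, or_false] at hl
  rcases hl with ⟨e1, e2, e3⟩ | ⟨e1, e2, e3⟩ | ⟨e1, e2, e3⟩ | ⟨e1, e2, e3⟩ | ⟨e1, e2, e3⟩ | ⟨e1, e2, e3⟩ |
    ⟨e1, e2, e3⟩ | ⟨e1, e2, e3⟩ | ⟨e1, e2, e3⟩ <;> rw [e2] at hpq hn13 <;> rw [e1, e2] at hV hcc
  · have hp2 : p = 2 := (Nat.prime_dvd_prime_iff_eq hp Nat.prime_two).1
      (hp.dvd_of_dvd_pow (show p ∣ 2 ^ 2 by exact hpq))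
    exact two H hS (by omega) (hn13 63 (by omega) (by norm_num)) (hcc 13 h13p (by norm_num))
      (hcc 2 Nat.prime_two (by norm_num)) hm (by omega) (by rw [hV]; norm_num) (by rw [e1, e2]; norm_num)
  · have hp2 : p = 2 := (Nat.prime_dvd_prime_iff_eq hp Nat.prime_two).1
      (hp.dvd_of_dvd_pow (show p ∣ 2 ^ 2 by exact hpq))
    exact two H hS (by omega) (hn13 21 (by omega) (by norm_num)) (hcc 13 h13p (by norm_num))
      (hcc 2 Nat.prime_two (by norm_num)) hm (by omega) (by rw [hV]; norm_num) (by rw [e1, e2]; norm_num)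
  · have hp2 : p = 2 := (Nat.prime_dvd_prime_iff_eq hp Nat.prime_two).1 hpq
    exact two H hS (by omega) (hn13 21 (by omega) (by norm_num)) (hcc 13 h13p (by norm_num))
      (hcc 2 Nat.prime_two (by norm_num)) hm (by omega) (by rw [hV]; norm_num) (by rw [e1, e2]; norm_num)
  all_goals
    have hp3 : p = 3 := by
      refine (Nat.prime_dvd_prime_iff_eq hp Nat.prime_three).1 (hp.dvd_of_dvd_pow (n := 2) ?_)
      first
        | exact hpq
        | exact Dvd.dvd.mul_right hpq 3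
  · have := six H hS (by omega) (by omega) (hn13 28 (by omega) (by norm_num)) (hcc 13 h13p (by norm_num)) hm e1
    omega
  · have := six H hS (by omega) (by omega) (hn13 14 (by omega) (by norm_num)) (hcc 13 h13p (by norm_num)) hm e1
    omega
  · have := seven H hS hm e1 e2
    omega
  · have := six H hS (by omega) (by omega) (hn13 7 (by omega) (by norm_num)) (hcc 13 h13p (by norm_num)) hm e1
    omega
  · exact three H hS (by omega) (hn13 112 (by omega) (by norm_num)) (hcc 13 h13p (by norm_num))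
      (hcc 3 Nat.prime_three (by norm_num)) hm (by omega) (by rw [hV]; norm_num)
  · exact three H hS (by omega) (hn13 112 (by omega) (by norm_num)) (hcc 13 h13p (by norm_num))
      (hcc 3 Nat.prime_three (by norm_num)) hm (by omega) (by rw [hV]; norm_num)

end Cfsg.Agent.H742.HT.L213
end

private theorem dce_b48530399996 : _root_.True := by
  try have : _root_.True := by simp only [_root_.Cfsg.Agent.H742.HT.T13.un.congr_simp]
  exact _root_.True.intro
end

-- part: H919/HT/MTT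
section
prune_inst 0x310061040400000000000590130020402000009200230001f14001420806d1010000070040101e0080402280004040000000011000100000000002004001000000231000903c0d0430000080b086000000000000000000000000000000041000000000002
set_option linter.all false
open scoped Cfsg.Agent.FastGrp

/-!
# S3512, quasisimple rows, `p = 2`: groups with a Frobenius group `5:4`; `M₂₂` (helper919)

* `five_four` : `L / Z(L)` contains `5:4`, `25 ∤ |G|`, `(dim, |K|, m) = (6, 4, 315)` or `(12, 2, 315)`: impossible;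
* `m22` : the row `M₂₂`.
-/

set_option autoImplicit false
set_option linter.unusedSectionVars false

universe u w

namespace Cfsg.Agent.H919.HT.MTT

open Cfsg Module Cfsg.Agent.H828.HT Cfsg.Agent.H742.HT Cfsg.Agent.H192.Ht Cfsg.Agent.H742.HT.Lift

variable {p : ℕ} [Fact p.Prime] {K : Type w} [Field K] {V : Type u} [AddCommGroup V] [Module (ZMod p) V] [Finite V]
    [Module K V] {G L : Subgroup (V ≃ₗ[ZMod p] V)} {h : ℕ}

theorem ord_two : orderOf ((2 : ℕ) : ZMod 5) = 4 := by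
  rw [orderOf_eq_iff (by norm_num)]
  refine ⟨by decide, fun j h1 h2 => ?_⟩
  interval_cases j <;> decide

/-- **`5:4`** -/
theorem five_four (H : QL p K V G L h) {m : ℕ} (hm : m * h = Nat.card G)
    (hl : (finrank K V, Nat.card K, m) ∈ [(6, 4, 315), (12, 2, 315)]) (h25 : ¬ 25 ∣ Nat.card G)
    {y z : L ⧸ Subgroup.center L} (hz : z ^ 5 = 1) (hz1 : z ≠ 1) (hy : y ^ 4 = 1) (hyz : y * z * y⁻¹ = z ^ 2) : False := by
  simp only [List.mem_cons, Prod.mk.injEq, List.not_mem_nil, or_false] at hl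
  have hGfin : Finite G := inferInstance
  have hG0 : 0 < Nat.card G := Nat.card_pos
  have h0 : 0 < h := Nat.pos_of_ne_zero (by rintro rfl; omega)
  -- the characteristic
  have hp2 : p = 2 := by
    obtain ⟨k, hk, hk0⟩ := QN.exists_card H
    have h1 : p ∣ Nat.card K := hk ▸ dvd_pow_self p hk0.ne'
    have h2 : p ∣ 2 ^ 2 := by
      rcases hl with ⟨-, h2, -⟩ | ⟨-, h2, -⟩ <;> rw [h2] at h1
      · exact h1
      · exact h1.trans (by norm_num)
    exact (Nat.prime_dvd_prime_iff_eq Fact.out Nat.prime_two).1 ((Fact.out : p.Prime).dvd_of_dvd_pow h2)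
  have hm5 : m = 315 := by rcases hl with ⟨-, -, h2⟩ | ⟨-, -, h2⟩ <;> exact h2
  have h5 : ¬ 5 ∣ h := by
    rintro ⟨a, ha⟩
    exact h25 ⟨63 * a, by rw [← hm, hm5, ha]; ring⟩
  have c5 : Nat.Coprime 5 (Nat.card (Subgroup.center L)) := coprime_center H Nat.prime_five (by
    rintro ⟨h1, -⟩
    rcases hl with ⟨h2, -, -⟩ | ⟨h2, -, -⟩ <;> rw [h2] at h1 <;> revert h1 <;> decide)
  have c2 : Nat.Coprime 2 (Nat.card (Subgroup.center L)) := coprime_center H Nat.prime_two (by
    rintro ⟨-, h1⟩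
    rcases hl with ⟨-, h2, -⟩ | ⟨-, h2, -⟩ <;> rw [h2] at h1 <;> revert h1 <;> decide)
  have c4 : Nat.Coprime 4 (Nat.card (Subgroup.center L)) := Nat.Coprime.pow_left 2 c2
  obtain ⟨z', hz', ez⟩ := lift_pow c5 z hz
  obtain ⟨y', hy', ey⟩ := lift_pow c4 y hy
  have hyz' : y' * z' * y'⁻¹ = z' ^ 2 := lift_rel c5 hz' (by rw [ey, ez]; exact hyz)
  have hz1' : (z' : V ≃ₗ[ZMod p] V) ≠ 1 := by
    intro h1
    have h2 : z' = 1 := Subtype.ext h1
    rw [h2] at ez
    exact hz1 ez.symm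
  have : Fact (Nat.Prime 5) := ⟨Nat.prime_five⟩
  have hfpf : ∀ v : V, (z' : V ≃ₗ[ZMod p] V) v = v → v = 0 := fun v hv =>
    fpf_of_not_dvd H.half (r := 5) h5 (H.le z'.2) (by rw [← Subgroup.coe_pow, hz']; rfl) hz1' hv
  have ho : orderOf ((2 : ℕ) : ZMod 5) = 4 := ord_two
  obtain ⟨c, hc1, hc2, -⟩ := frob H Nat.prime_five (by rw [hp2]; norm_num) hz' hyz' ho (by norm_num) hy' hfpf
  rcases hl with ⟨h1, h2, -⟩ | ⟨h1, h2, -⟩
  · omega
  · have hc : c = 3 := by omega
    rw [h2, hc] at hc2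
    have hV : Nat.card V = 4096 := by rw [QN.card_V H, h1, h2]; norm_num
    have h3 := Fus.fus_fx H.half h0 hm (i := 13) (by rw [hV, hm5]) Nat.prime_two (H.le y'.2) (k := 2)
      (by rw [← Subgroup.coe_pow]; exact congrArg Subtype.val hy')
    rw [hc2, hm5] at h3
    revert h3
    decide

section mtt

open Cfsg.Agent.GH.LowRankMathieu Cfsg.Agent.J4Type.CocodeMask
open Cfsg.Agent.SporadicA.GolayPerm hiding pcomp papp_pcomp

/-- tables -/
def PY : ℕ := 973945046982007308721274658687998016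
def PZ : ℕ := 975752788534200086515760939580176480
/-- `5:4` in `M₂₂` -/
theorem m22_elts : ∃ y z : Spor.M22, z ^ 5 = 1 ∧ z ≠ 1 ∧ y ^ 4 = 1 ∧ y * z * y⁻¹ = z ^ 2 := by
  have tY := isT_mk22 PY (by decide +kernel) (by decide +kernel) (by decide +kernel)
  have tZ := isT_mk22 PZ (by decide +kernel) (by decide +kernel) (by decide +kernel)
  refine ⟨mk22 PY (by decide +kernel) (by decide +kernel) (by decide +kernel),
    mk22 PZ (by decide +kernel) (by decide +kernel) (by decide +kernel), ?_, ?_, ?_, ?_⟩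
  · have h := tZ.mul (tZ.mul (tZ.mul (tZ.mul tZ)))
    rw [show pcomp PZ (pcomp PZ (pcomp PZ (pcomp PZ PZ))) = pone by decide +kernel] at h
    have h1 := h.eq isT_one
    rw [← h1]
    simp only [pow_succ, pow_zero, one_mul, mul_assoc]
  · intro h
    rw [h] at tZ
    have h1 := tZ (some 1)
    have e : Cfsg.Agent.SporadicA.GolayBase.idx (some 1 : GolayPt) = 1 := by decide +kernel
    have h2 : (((1 : Spor.M22) : Equiv.Perm GolayPt) (some 1)) = some 1 := rfl
    rw [h2, e] at h1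
    revert h1
    decide +kernel
  · have h := tY.mul (tY.mul (tY.mul tY))
    rw [show pcomp PY (pcomp PY (pcomp PY PY)) = pone by decide +kernel] at h
    have h1 := h.eq isT_one
    rw [← h1]
    simp only [pow_succ, pow_zero, one_mul, mul_assoc]
  · rw [mul_inv_eq_iff_eq_mul, pow_two]
    have h := (tZ.mul tZ).mul tY
    rw [show pcomp (pcomp PZ PZ) PY = pcomp PY PZ by decide +kernel] at h
    exact (tY.mul tZ).eq h

end mtt

theorem card_aut : Nat.card (MulAut Spor.M22) = 887040 := by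
  rw [← Cfsg.Agent.J4Type.Aut22.card_D22, ← Cfsg.Agent.KFacts.MM.OutAut.emb_range]
  exact Nat.card_congr (MonoidHom.ofInjective Cfsg.Agent.KFacts.MM.OutAut.emb_inj).toEquiv

/-- **`M₂₂`** -/
theorem m22 (H : QL p K V G L h) {m : ℕ} (hm : m * h = Nat.card G)
    (hl : (finrank K V, Nat.card K, m) ∈ [(6, 4, 315), (12, 2, 315)]) (e : Spor.IsoM22 (L ⧸ Subgroup.center L)) :
    False := by
  obtain ⟨e⟩ := e
  obtain ⟨y, z, h1, h2, h3, h4⟩ := m22_elts
  have hG := QN.card_G_dvd H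
  have hA : Nat.card (MulAut (L ⧸ Subgroup.center L)) = 887040 := by
    rw [← card_aut]
    exact Nat.card_congr (MulAut.congr e).toEquiv
  rw [hA] at hG
  refine five_four H hm hl (fun h5 => ?_) (y := e.symm y) (z := e.symm z) ?_ ?_ ?_ ?_
  · simp only [List.mem_cons, Prod.mk.injEq, List.not_mem_nil, or_false] at hl
    have h6 := h5.trans hG
    rcases hl with ⟨-, h7, -⟩ | ⟨-, h7, -⟩ <;> rw [h7] at h6 <;> revert h6 <;> decide
  · rw [← map_pow, h1, map_one]
  · intro h5
    exact h2 (e.symm.injective (by rw [h5, map_one]))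
  · rw [← map_pow, h3, map_one]
  · rw [← map_inv, ← map_mul, ← map_mul, ← map_pow, h4]

end Cfsg.Agent.H919.HT.MTT
end

-- part: H506/HT/JTwo
section
prune_inst 0x110041004400000000000010000020402000000000030000410001020809400100000600002006000000008000008000000000000000000000000200400100000022100000100904000000000004000000000000000000000000000000000000000000000
set_option linter.all false
open scoped Cfsg.Agent.FastGrp

/-!
# S3512, the row `J₂`, `|V| = 2 ^ 12`, `m = 315` (helper506)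

`E = ⟨x, y⟩` is a Sylow 5-subgroup of `L`.  The fixed point formula for `E` on `V` shows that `C_V(E) = 0`, that three of the six
subgroups of order 5 of `E` have 16 fixed points and the other three one.  Every `L`-orbit of non-zero vectors has length
at most 315 and contains at least five of the at most 51 vectors fixed by an element of order 5 of `E`.
-/

set_option autoImplicit false
set_option linter.unusedSectionVars false

universe u w

namespace Cfsg.Agent.H506.HT

open Cfsg Cfsg.Agent.H828.HT Cfsg.Agent.H199.HT Cfsg.Agent.H742.HT Subgroup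

section dim

variable {K : Type*} [Field K] [Finite K] {V : Type*} [AddCommGroup V] [Module K V] [Finite V] {L : Type*} [Group L]
  [Finite L] {x y d u : L}

/-- **the fixed point formula** for the plane, `p ≠ 5` -/
theorem dim_formula {p : ℕ} [Fact p.Prime] (κ : L →* (V ≃ₗ[K] V)) (h : Five x y d u) (hp : ∀ v : V, p • v = 0)
    (hp5 : ¬ p ∣ 25) :
    ∑ i : Fin 6, Module.finrank K (F1 κ (pt x y i)) = 5 * Module.finrank K ↥(F1 κ x ⊓ F1 κ y) + Module.finrank K V := by
  classical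
  let ρ : h.pl →* AddMonoid.End V :=
    { toFun := fun l => ((κ l : V →ₗ[K] V) : V →+ V)
      map_one' := by ext v; rw [OneMemClass.coe_one, map_one]; rfl
      map_mul' := fun a b => by ext v; rw [Subgroup.coe_mul, map_mul]; rfl }
  have hρ : ∀ (l : h.pl) v, ρ l v = κ l v := fun l v => rfl
  have hle : ∀ i, zpowers (pt x y i) ≤ h.pl := fun i => zpowers_le.2 (h.pt_mem i)
  have key := OddOrderCharacters.WielandtElem.prod_eq_prod (r := p) hp ρ (by rw [h.card_pl]; exact hp5) (I := Fin 6)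
    (J := Option (Fin 5)) (fun i => (zpowers (pt x y i)).subgroupOf h.pl)
    (fun j => match j with | none => ⊤ | some _ => ⊥) ?_
  · have hq : 1 < Nat.card K := Finite.one_lt_card
    -- the cardinals
    have e1 : ∀ i : Fin 6, Nat.card {v : V // ∀ l ∈ (zpowers (pt x y i)).subgroupOf h.pl, ρ l v = v} =
        Nat.card K ^ Module.finrank K (F1 κ (pt x y i)) := by
      intro i
      rw [← Module.natCard_eq_pow_finrank (K := K) (V := F1 κ (pt x y i))]
      refine Nat.card_congr (Equiv.subtypeEquivRight fun v => ?_)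
      constructor
      · intro hv
        exact hv ⟨pt x y i, h.pt_mem i⟩ (mem_zpowers _)
      · intro hv l hl
        exact fix_zpow hv hl
    have e2 : Nat.card {v : V // ∀ l ∈ (⊤ : Subgroup h.pl), ρ l v = v} =
        Nat.card K ^ Module.finrank K ↥(F1 κ x ⊓ F1 κ y) := by
      rw [← Module.natCard_eq_pow_finrank (K := K) (V := ↥(F1 κ x ⊓ F1 κ y))]
      refine Nat.card_congr (Equiv.subtypeEquivRight fun v => ?_)
      constructor
      · intro hv
        exact ⟨hv ⟨x, ⟨1, 0, by simp⟩⟩ trivial, hv ⟨y, ⟨0, 1, by simp⟩⟩ trivial⟩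
      · rintro ⟨h1, h2⟩ ⟨l, i, j, rfl⟩ -
        rw [hρ, kmul, fix_pow h2, fix_pow h1]
    have e3 : Nat.card {v : V // ∀ l ∈ (⊥ : Subgroup h.pl), ρ l v = v} = Nat.card K ^ Module.finrank K V := by
      rw [← Module.natCard_eq_pow_finrank (K := K) (V := V)]
      refine Nat.card_congr (Equiv.subtypeUnivEquiv fun v => ?_)
      intro l hl
      rw [Subgroup.mem_bot.1 hl, map_one]
      rfl
    have e4 : ∀ i : Fin 6, Nat.card ((zpowers (pt x y i)).subgroupOf h.pl) = 5 := by
      intro i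
      have f5 : Fact (Nat.Prime 5) := ⟨by norm_num⟩
      rw [Nat.card_congr (subgroupOfEquivOfLe (hle i)).toEquiv, Nat.card_zpowers]
      apply orderOf_eq_prime (h.pow_five (h.pt_mem i))
      intro h2
      by_cases h3 : (i : ℕ) = 5
      · rw [pt, if_pos h3] at h2
        exact h.y1 h2
      · rw [pt, if_neg h3] at h2
        have h4 := (h.inj (i := 1) (j := i) (by rw [pow_one]; exact h2)).1
        omega
    rw [Fintype.prod_option] at key
    simp only [e1, e2, e3, e4, Subgroup.card_top, h.card_pl, Subgroup.card_bot, pow_one, ← pow_mul] at key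
    rw [Finset.prod_const, Finset.card_univ, Fintype.card_fin, ← pow_mul, ← pow_add, Finset.prod_pow_eq_pow_sum] at key
    have h3 := Nat.pow_right_injective hq key
    have h4 : ∑ i : Fin 6, Module.finrank K (F1 κ (pt x y i)) * 5 =
        (∑ i : Fin 6, Module.finrank K (F1 κ (pt x y i))) * 5 := (Finset.sum_mul _ _ _).symm
    have h5 : (∑ i : Fin 6, Module.finrank K (F1 κ (pt x y i))) * 5 =
        Module.finrank K ↥(F1 κ x ⊓ F1 κ y) * 25 + Module.finrank K V * 5 := by rw [← h4]; exact h3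
    omega
  · rintro ⟨f, i, j, hf'⟩
    by_cases h0 : i % 5 = 0 ∧ j % 5 = 0
    · have hf1 : (⟨f, i, j, hf'⟩ : h.pl) = 1 := by
        apply Subtype.ext
        change f = 1
        rw [hf', h.pow_mod, h.pow_mod' j, h0.1, h0.2]; simp
      rw [Nat.card_congr (Equiv.subtypeUnivEquiv fun i => by rw [hf1]; exact one_mem _),
        Nat.card_congr (Equiv.subtypeUnivEquiv fun j => by rw [hf1]; exact one_mem _)]
      simp
    · have hf1 : (⟨f, i, j, hf'⟩ : h.pl) ≠ 1 := by
        intro e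
        have e' : f = 1 := congrArg Subtype.val e
        rw [hf'] at e'
        exact h0 (h.inj e')
      have e1 : Nat.card {k : Fin 6 // (⟨f, i, j, hf'⟩ : h.pl) ∈ (zpowers (pt x y k)).subgroupOf h.pl} = 1 := by
        rw [← card_onLine i j h0]
        exact Nat.card_congr (Equiv.subtypeEquivRight fun k => by
          rw [Subgroup.mem_subgroupOf]
          change f ∈ _ ↔ _
          rw [hf']; exact mem_line h i j k)
      rw [e1]
      symm
      rw [Nat.card_eq_one_iff_unique]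
      refine ⟨⟨?_⟩, ⟨⟨none, Subgroup.mem_top _⟩⟩⟩
      rintro ⟨a, ha⟩ ⟨b, hb⟩
      cases a with
      | none =>
        cases b with
        | none => rfl
        | some i' => exact absurd hb hf1
      | some i' => exact absurd ha hf1

/-- the dimensions, `|V| = 2 ^ 12` -/
theorem dims {V : Type*} [AddCommGroup V] [Module (ZMod 2) V] [Finite V] (κ : L →* (V ≃ₗ[ZMod 2] V))
    (hκ : Function.Injective κ) (h : Five x y d u) (hV : Nat.card V = 4096) :
    F1 κ x ⊓ F1 κ y = ⊥ ∧ ∑ i : Fin 6, Nat.card (F1 κ (pt x y i)) = 51 := by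
  have f2 : Fact (Nat.Prime 2) := ⟨by norm_num⟩
  have f5 : Fact (Nat.Prime 5) := ⟨by norm_num⟩
  have hpV : ∀ v : V, 2 • v = 0 := by
    intro v
    have h1 : ((2 : ℕ) : ZMod 2) • v = 0 := by rw [ZMod.natCast_self, zero_smul]
    rwa [Nat.cast_smul_eq_nsmul] at h1
  have hsum := dim_formula (p := 2) κ h hpV (by norm_num)
  obtain ⟨h0, h1, h3, h4⟩ := finrank_orbits κ h
  have hcard : ∀ W : Submodule (ZMod 2) V, Nat.card W = 2 ^ Module.finrank (ZMod 2) W := by
    intro W
    rw [Module.natCard_eq_pow_finrank (K := ZMod 2) (V := W), Nat.card_zmod]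
  have hn : Module.finrank (ZMod 2) V = 12 := by
    have h5 := Module.natCard_eq_pow_finrank (K := ZMod 2) (V := V)
    rw [hV, Nat.card_zmod] at h5
    exact Nat.pow_right_injective (le_refl 2) (h5.symm.trans (by norm_num : 4096 = 2 ^ 12))
  -- the dimensions are divisible by four
  have hfour : ∀ W : Submodule (ZMod 2) V, Nat.card V ≡ Nat.card W [MOD 5] → Module.finrank (ZMod 2) W ≤ 12 ∧
      4 ∣ Module.finrank (ZMod 2) W := by
    intro W hW
    have h5 : Module.finrank (ZMod 2) W ≤ 12 := by rw [← hn]; exact Submodule.finrank_le _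
    refine ⟨h5, ?_⟩
    rw [hV, hcard] at hW
    generalize Module.finrank (ZMod 2) W = c at *
    interval_cases c <;> first | (exfalso; revert hW; decide) | decide
  have hmod : ∀ P : Subgroup L, IsPGroup 5 P → ∀ W : Submodule (ZMod 2) V,
      (∀ v, v ∈ W ↔ ∀ g ∈ P, κ g v = v) → Nat.card V ≡ Nat.card W [MOD 5] := by
    intro P hP W hW
    let _ : MulAction P V := MulAction.compHom V (κ.comp P.subtype)
    have h5 := hP.card_modEq_card_fixedPoints V
    have h6 : Nat.card (MulAction.fixedPoints P V) = Nat.card W := by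
      refine Nat.card_congr (Equiv.subtypeEquivRight fun v => ?_)
      rw [hW]
      constructor
      · intro hv g hg
        exact hv ⟨g, hg⟩
      · intro hv g
        exact hv g g.2
    rwa [h6] at h5
  have hz : ∀ i, Nat.card V ≡ Nat.card (F1 κ (pt x y i)) [MOD 5] := by
    intro i
    refine hmod (zpowers (pt x y i)) ?_ _ ?_
    · rintro ⟨z, k, rfl⟩
      refine ⟨1, Subtype.ext ?_⟩
      change (pt x y i ^ k) ^ 5 ^ 1 = 1
      rw [pow_one, ← zpow_natCast, ← zpow_mul, mul_comm, zpow_mul, zpow_natCast, h.pow_five (h.pt_mem i), one_zpow]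
    · intro v
      constructor
      · intro hv g hg
        exact fix_zpow hv hg
      · intro hv
        exact hv _ (mem_zpowers _)
  have hE : Nat.card V ≡ Nat.card ↥(F1 κ x ⊓ F1 κ y) [MOD 5] := by
    refine hmod h.pl ?_ _ ?_
    · exact IsPGroup.of_card (n := 2) (by rw [h.card_pl]; norm_num)
    · intro v
      constructor
      · rintro ⟨h1, h2⟩ l ⟨i, j, rfl⟩
        rw [kmul, fix_pow h2, fix_pow h1]
      · intro hv
        exact ⟨hv x ⟨1, 0, by simp⟩, hv y ⟨0, 1, by simp⟩⟩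
  obtain ⟨a1, a2⟩ := hfour _ (hz 5)
  obtain ⟨b1, b2⟩ := hfour _ (hz 2)
  obtain ⟨c1, c2⟩ := hfour _ hE
  have hc12 : Module.finrank (ZMod 2) ↥(F1 κ x ⊓ F1 κ y) ≠ 12 := by
    intro e
    have h7 : F1 κ x ⊓ F1 κ y = ⊤ := Submodule.eq_top_of_finrank_eq (by rw [e, hn])
    apply h.x1
    apply hκ
    rw [map_one]
    apply LinearEquiv.ext
    intro v
    have h8 : v ∈ F1 κ x ⊓ F1 κ y := by rw [h7]; trivial
    exact h8.1
  simp only [Fin.sum_univ_six] at hsum ⊢
  simp only [hcard]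
  rw [h0, h1, h3, h4, hn] at hsum
  rw [h0, h1, h3, h4]
  set a := Module.finrank (ZMod 2) (F1 κ (pt x y 5)) with ha
  set b := Module.finrank (ZMod 2) (F1 κ (pt x y 2)) with hb
  set c := Module.finrank (ZMod 2) ↥(F1 κ x ⊓ F1 κ y) with hc
  have hc0 : c = 0 := by omega
  refine ⟨Submodule.finrank_eq_zero.1 hc0, ?_⟩
  have hab : (a = 0 ∧ b = 4) ∨ (a = 4 ∧ b = 0) := by omega
  rcases hab with ⟨e1, e2⟩ | ⟨e1, e2⟩ <;> rw [e1, e2] <;> norm_num

end dim

/-- **the count** -/
theorem core {V : Type*} [AddCommGroup V] [Module (ZMod 2) V] [Finite V] {L : Subgroup (V ≃ₗ[ZMod 2] V)} {x y d u : L}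
    (h : Five x y d u) (hV : Nat.card V = 4096) (hfac : (Nat.card L).factorization 5 = 2)
    (horb : ∀ v : V, v ≠ 0 → Nat.card (MulAction.orbit L v) ≤ 315 ∧ 5 ∣ Nat.card (MulAction.stabilizer L v)) :
    False := by
  classical
  have f5 : Fact (Nat.Prime 5) := ⟨by norm_num⟩
  let κ : L →* (V ≃ₗ[ZMod 2] V) := L.subtype
  obtain ⟨hE, hsum⟩ := dims κ L.subtype_injective h hV
  obtain ⟨P, hP⟩ := h.exists_sylow hfac
  let A : V → Prop := fun v => ∃ i, v ∈ F1 κ (pt x y i)
  have key : ∀ v : V, 5 * Nat.card (MulAction.orbit L v) ≤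
      315 * Nat.card {w : MulAction.orbit L v // A (w : V)} := by
    intro v
    by_cases hv : v = 0
    · subst hv
      have h1 : Nat.card (MulAction.orbit L (0 : V)) = 1 := by
        rw [Nat.card_eq_one_iff_unique]
        refine ⟨⟨?_⟩, ⟨⟨0, MulAction.mem_orbit_self _⟩⟩⟩
        rintro ⟨_, a, rfl⟩ ⟨_, b, rfl⟩
        apply Subtype.ext
        change ((a : V ≃ₗ[ZMod 2] V)) 0 = ((b : V ≃ₗ[ZMod 2] V)) 0
        rw [map_zero, map_zero]
      have h2 : 0 < Nat.card {w : MulAction.orbit L (0 : V) // A (w : V)} := by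
        have : Nonempty {w : MulAction.orbit L (0 : V) // A (w : V)} :=
          ⟨⟨⟨0, MulAction.mem_orbit_self _⟩, 0, Submodule.zero_mem _⟩⟩
        exact Nat.card_pos
      omega
    · obtain ⟨h1, h2⟩ := horb v hv
      -- an element of order 5 of the stabiliser, conjugate into the plane
      obtain ⟨⟨g, hgs⟩, hg⟩ := exists_prime_orderOf_dvd_card' 5 h2
      have hg' : orderOf g = 5 := by rw [← hg]; exact (Subgroup.orderOf_mk g hgs).symm
      have hgv : (g : V ≃ₗ[ZMod 2] V) v = v := hgs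
      have hgp : IsPGroup 5 (zpowers g) := IsPGroup.of_card (n := 1) (by rw [Nat.card_zpowers, hg', pow_one])
      obtain ⟨Q, hQ⟩ := hgp.exists_le_sylow
      obtain ⟨k, hk⟩ := MulAction.exists_smul_eq L Q P
      have h3 : k * g * k⁻¹ ∈ h.pl := by
        rw [← hP, ← hk]
        exact ⟨g, hQ (mem_zpowers g), rfl⟩
      have h4 : zpowers (k * g * k⁻¹) ≤ h.pl := zpowers_le.2 h3
      have h5 : Nat.card (zpowers (k * g * k⁻¹)) = 5 := by
        rw [Nat.card_zpowers]
        have : orderOf (k * g * k⁻¹) = orderOf g := by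
          have := orderOf_injective (MulAut.conj k).toMonoidHom (MulAut.conj k).injective g
          simpa using this
        rw [this, hg']
      obtain ⟨i, hi⟩ := h.line_cases h4 h5
      set w : V := (k : V ≃ₗ[ZMod 2] V) v with hw
      have hw0 : w ≠ 0 := fun hc => hv ((k : V ≃ₗ[ZMod 2] V).map_eq_zero_iff.1 hc)
      have hAw : w ∈ F1 κ (pt x y i) := by
        have h6 : F1 κ (k * g * k⁻¹) = F1 κ (pt x y i) :=
          F1_eq (by rw [← hi]; exact mem_zpowers _) (by rw [hi]; exact mem_zpowers _)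
        rw [← h6]
        change κ (k * g * k⁻¹) (κ k v) = κ k v
        have h7 : κ g v = v := hgv
        rw [kmul, kmul, kinv', h7]
      -- the orbit of the plane
      have h8 : 5 ≤ Nat.card (MulAction.orbit h.pl w) := by
        have h9 : Nat.card (MulAction.orbit h.pl w) * Nat.card (MulAction.stabilizer h.pl w) = 25 := by
          rw [← Nat.card_prod, ← h.card_pl]
          exact Nat.card_congr (MulAction.orbitProdStabilizerEquivGroup h.pl w)
        have h10 : Nat.card (MulAction.stabilizer h.pl w) ∣ 5 ^ 2 := ⟨_, by rw [mul_comm] at h9; exact h9.symm⟩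
        obtain ⟨j, hj, hj'⟩ := (Nat.dvd_prime_pow f5.out).1 h10
        rw [hj'] at h9
        have h11 : j ≠ 2 := by
          rintro rfl
          have h12 : MulAction.stabilizer h.pl w = ⊤ := Subgroup.eq_top_of_card_eq _ (by rw [hj', h.card_pl]; norm_num)
          apply hw0
          have h13 : w ∈ F1 κ x ⊓ F1 κ y := by
            refine ⟨?_, ?_⟩
            · have : (⟨x, ⟨1, 0, by simp⟩⟩ : h.pl) ∈ MulAction.stabilizer h.pl w := by rw [h12]; trivial
              exact this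
            · have : (⟨y, ⟨0, 1, by simp⟩⟩ : h.pl) ∈ MulAction.stabilizer h.pl w := by rw [h12]; trivial
              exact this
          rw [hE] at h13
          exact (Submodule.mem_bot _).1 h13
        have h12 : j = 0 ∨ j = 1 := by omega
        rcases h12 with rfl | rfl <;> omega
      have h9 : Nat.card (MulAction.orbit h.pl w) ≤ Nat.card {w : MulAction.orbit L v // A (w : V)} := by
        refine Nat.card_le_card_of_injective (fun t => ⟨⟨t.1, ?_⟩, i, ?_⟩) ?_
        · obtain ⟨e, he⟩ := t.2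
          refine ⟨(e : L) * k, ?_⟩
          rw [← he]
          rfl
        · obtain ⟨e, he⟩ := t.2
          have he' : κ (e : L) w = t.1 := he
          change κ (pt x y i) t.1 = t.1
          have hc : pt x y i * (e : L) = (e : L) * pt x y i := h.comm_pl (h.pt_mem i) e.2
          have hAw' : κ (pt x y i) w = w := hAw
          rw [← he', ← kmul, hc, kmul, hAw']
        · intro a b hab
          exact Subtype.ext (congrArg (fun z => ((z : {w : MulAction.orbit L v // A (w : V)}).1 : V)) hab)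
      have := h8.trans h9
      calc 5 * Nat.card (MulAction.orbit L v) ≤ 5 * 315 := Nat.mul_le_mul_left _ h1
        _ = 315 * 5 := by norm_num
        _ ≤ _ := Nat.mul_le_mul_left _ this
  let _ : Fintype (MulAction.orbitRel.Quotient L V) := Fintype.ofFinite _
  have h1 := Fus.card_eq_sum (Γ := L) (X := V)
  have h2 := Fus.card_subtype_eq_sum (Γ := L) (X := V) A
  have h3 : 5 * Nat.card V ≤ 315 * Nat.card {v // A v} := by
    rw [h1, h2, Finset.mul_sum, Finset.mul_sum]
    refine Finset.sum_le_sum fun ω _ => ?_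
    induction ω using Quotient.inductionOn' with
    | h v => exact key v
  have h4 : Nat.card {v // A v} ≤ 51 := by
    rw [← hsum, ← Nat.card_sigma]
    refine Nat.card_le_card_of_injective (fun v => (⟨v.2.choose, ⟨v.1, v.2.choose_spec⟩⟩ :
      Σ i : Fin 6, F1 κ (pt x y i))) ?_
    intro a b hab
    have h5 : ((⟨a.2.choose, ⟨a.1, a.2.choose_spec⟩⟩ : Σ i : Fin 6, F1 κ (pt x y i)).2 : V) =
        ((⟨b.2.choose, ⟨b.1, b.2.choose_spec⟩⟩ : Σ i : Fin 6, F1 κ (pt x y i)).2 : V) :=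
      congrArg (fun z : Σ i : Fin 6, F1 κ (pt x y i) => (z.2 : V)) hab
    exact Subtype.ext h5
  rw [hV] at h3
  omega

/-! ### The row -/

variable {p : ℕ} [Fact p.Prime] {K : Type w} [Field K] {V : Type u} [AddCommGroup V] [Module (ZMod p) V] [Finite V]
    [Module K V] {G L : Subgroup (V ≃ₗ[ZMod p] V)} {h : ℕ}

/-- central elements have order dividing `|K| - 1` -/
theorem center_pow (H : QL p K V G L h) {z : L} (hz : z ∈ center L) : z ^ (Nat.card K - 1) = 1 := by
  have hK := H192.Ht.QN.finiteK H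
  obtain ⟨v0, hv0⟩ := H192.Ht.QN.exists_ne H
  obtain ⟨c, hc⟩ := H.endo ((z : V ≃ₗ[ZMod p] V) : V →ₗ[ZMod p] V) (by
    intro l hl v
    have h1 := Subgroup.mem_center_iff.1 hz ⟨l, hl⟩
    have h2 := congrArg (fun k : L => (k : V ≃ₗ[ZMod p] V) v) h1
    exact h2.symm)
  have hc0 : c ≠ 0 := by
    rintro rfl
    apply hv0
    have h1 : (z : V ≃ₗ[ZMod p] V) v0 = (0 : K) • v0 := hc v0
    rw [zero_smul] at h1
    exact (z : V ≃ₗ[ZMod p] V).map_eq_zero_iff.1 h1
  have h1 : ∀ (n : ℕ) (v : V), ((z ^ n : L) : V ≃ₗ[ZMod p] V) v = c ^ n • v := by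
    intro n
    induction n with
    | zero => intro v; simp
    | succ n ih =>
      intro v
      rw [pow_succ' z n]
      change (z : V ≃ₗ[ZMod p] V) (((z ^ n : L) : V ≃ₗ[ZMod p] V) v) = _
      have h3 : ∀ v, (z : V ≃ₗ[ZMod p] V) v = c • v := hc
      rw [ih, h3, smul_smul, ← pow_succ']
  have h2 : c ^ (Nat.card K - 1) = 1 := by
    have : Fintype K := Fintype.ofFinite K
    rw [Nat.card_eq_fintype_card]
    exact FiniteField.pow_card_sub_one_eq_one c hc0
  apply Subtype.ext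
  apply LinearEquiv.ext
  intro v
  rw [h1, h2, one_smul]
  rfl

/-- **The row `J₂`, `|V| = 2 ^ 12`.** -/
theorem kill_J2 (H : QL p K V G L h) (hS : Spor.IsoJ2 (L ⧸ Subgroup.center L)) {m : ℕ} (hm : m * h = Nat.card G)
    (hl : (Module.finrank K V, Nat.card K, m) ∈ [(6, 4, 315), (12, 2, 315)]) : False := by
  have hK := H192.Ht.QN.finiteK H
  obtain ⟨v0, hv0⟩ := H192.Ht.QN.exists_ne H
  have h0 : 0 < h := Cfsg.Agent.H19.HT.h_pos H.half hv0
  have f5 : Fact (Nat.Prime 5) := ⟨by norm_num⟩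
  obtain ⟨hc2, hV, hm5⟩ : (Nat.card K - 1) ∣ 3 ∧ Nat.card V = 4096 ∧ m = 315 := by
    simp only [List.mem_cons, Prod.mk.injEq, List.not_mem_nil, or_false] at hl
    rw [H192.Ht.QN.card_V H]
    rcases hl with ⟨h1, h2, h3⟩ | ⟨h1, h2, h3⟩
    · rw [h1, h2]; exact ⟨by norm_num, by norm_num, h3⟩
    · rw [h1, h2]; exact ⟨by norm_num, by norm_num, h3⟩
  have hp2 : p = 2 := by
    have h1 : p ∣ Nat.card V := by
      obtain ⟨k, hk, hk0⟩ := H192.Ht.QN.exists_card H
      rw [H192.Ht.QN.card_V H, hk]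
      exact dvd_pow (dvd_pow_self _ hk0.ne') (H192.Ht.QN.finrank_pos H).ne'
    rw [hV, show (4096 : ℕ) = 2 ^ 12 by norm_num] at h1
    exact (Nat.prime_dvd_prime_iff_eq Fact.out (by norm_num)).1 ((Fact.out : p.Prime).dvd_of_dvd_pow h1)
  subst hp2
  subst hm5
  have hz6 : ∀ z ∈ center L, z ^ 6 = 1 := by
    intro z hz
    have h1 := orderOf_dvd_of_pow_eq_one (center_pow H hz)
    exact orderOf_dvd_iff_pow_eq_one.1 ((h1.trans hc2).trans (by norm_num))
  have hz : ¬ 5 ∣ Nat.card (center L) := by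
    intro h5
    obtain ⟨z, hz⟩ := exists_prime_orderOf_dvd_card' 5 h5
    have h1 : (z : L) = 1 := by
      refine central_one hz6 z.2 ?_
      have h2 : z ^ 5 = 1 := by rw [← hz]; exact pow_orderOf_eq_one z
      exact congrArg Subtype.val h2
    have h2 : z = 1 := Subtype.ext h1
    rw [h2, orderOf_one] at hz
    norm_num at hz
  have hcL : Nat.card L = 604800 * Nat.card (center L) := by
    rw [← card_J2 hS]; exact Subgroup.card_eq_card_quotient_mul_card_subgroup _
  have hcz : Nat.card (center L) ≠ 0 := Nat.card_pos.ne'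
  have hfac : (Nat.card L).factorization 5 = 2 := by
    rw [hcL, Nat.factorization_mul (by norm_num) hcz, Finsupp.add_apply, Nat.factorization_eq_zero_of_not_dvd hz,
      show (604800 : ℕ) = 5 ^ 2 * 24192 by norm_num, Nat.factorization_mul (by norm_num) (by norm_num),
      Finsupp.add_apply, Nat.Prime.factorization_pow (by norm_num), Finsupp.single_eq_same,
      Nat.factorization_eq_zero_of_not_dvd (by norm_num)]
  obtain ⟨x', y', d', u', s', h5'⟩ := exists_fiveN hS
  obtain ⟨x, y, d, u, h5⟩ := lift_five hz6 h5'.toFive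
  refine core h5 hV hfac ?_
  intro v hv
  have h1 := orbit_normal_dvd_m H.half h0 hm L H.le H.nrm hv
  refine ⟨Nat.le_of_dvd (by norm_num) h1, ?_⟩
  have h2 := Fus.orbit_mul_stab L v
  by_contra h3
  have h4 : 5 ^ 2 ∣ Nat.card (MulAction.orbit L v) * Nat.card (MulAction.stabilizer L v) := by
    rw [h2, hcL]
    exact (by norm_num : 5 ^ 2 ∣ 604800).mul_right _
  have h5 : Nat.Coprime (5 ^ 2) (Nat.card (MulAction.stabilizer L v)) :=
    Nat.Coprime.pow_left 2 ((Nat.Prime.coprime_iff_not_dvd (by norm_num)).2 h3)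
  have h6 := (h5.dvd_of_dvd_mul_right h4).trans h1
  norm_num at h6

/-- the row in the form of the assembly `H391.HT.AsmP` -/
theorem j2 {p : ℕ} [Fact p.Prime] {V : Type u} [AddCommGroup V] [Module (ZMod p) V] [Finite V] {K : Type w} [Field K]
    [Module K V] {G L : Subgroup (V ≃ₗ[ZMod p] V)} {h m : ℕ} (H : H19.HT.QSP p K V G L h)
    (hS : Spor.IsoJ2 (L ⧸ Subgroup.center L)) (hm : m * h = Nat.card G)
    (hl : (Module.finrank K V, Nat.card K, m) ∈ [(6, 4, 315), (12, 2, 315)]) : False :=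
  kill_J2 (p := p) (K := K) (V := V) (G := G) (L := L) (h := h)
    ⟨H.half, H.le, H.nrm, H.perf, H.simple, H.nonab, H.lin, H.endo, H.irr⟩ hS hm hl

end Cfsg.Agent.H506.HT
end

-- part: H828/HT/KillU33
section
prune_inst 0x310061043400000000000090110020003000009000030000d10001420907d0010000060042300e000000008010008000000000100010000000008200400000000423102010341c00100000007804000000000000000000000000000000041000000000002
set_option linter.all false
open scoped Cfsg.Agent.FastGrp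

/-!
# S3512, survivor `U₃(3)`, `(n, q, m) = (6, 2, 21)`
-/

set_option autoImplicit false
set_option linter.unusedSectionVars false

universe u w

namespace Cfsg.Agent.H828.HT.KillU33

open Cfsg Subgroup Cfsg.Agent.H828.HT Cfsg.Agent.H742.HT Cfsg.Agent.H742.HT.Fus Cfsg.Agent.H19.HT

/-- in a non-abelian group of order 27 a central element lies in every subgroup of order divisible by 9 -/
theorem mem_of_card {Q : Type*} [Group Q] [Finite Q] (hQ : Nat.card Q = 27) (hna : ∃ a b : Q, a * b ≠ b * a) {z : Q}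
    (hz : ∀ a, z * a = a * z) {R : Subgroup Q} (hR : 9 ∣ Nat.card R) : z ∈ R := by
  by_contra hzR
  have h3 : Fact (Nat.Prime 3) := ⟨Nat.prime_three⟩
  have key : ∀ H : Subgroup Q, 9 ∣ Nat.card H → Nat.card H ≠ 9 → H = ⊤ := by
    intro H h1 h2
    have h3 : Nat.card H ∣ 27 := hQ ▸ Subgroup.card_subgroup_dvd_card H
    have h4 : Nat.card H = 27 := by
      have h5 : Nat.card H ≤ 27 := Nat.le_of_dvd (by norm_num) h3
      interval_cases h6 : Nat.card H <;> omega
    exact Subgroup.eq_top_of_card_eq _ (h4.trans hQ.symm)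
  have hR9 : Nat.card R = 9 := by
    by_contra h
    exact hzR (by rw [key R hR h]; trivial)
  have hRc : IsMulCommutative R := IsPGroup.isMulCommutative_of_card_eq_prime_sq (p := 3) (by rw [hR9]; norm_num)
  have hlt : ∀ H : Subgroup Q, R ≤ H → z ∈ H → H = ⊤ := by
    intro H hRH hzH
    refine key H (hR.trans (Subgroup.card_dvd_of_le hRH)) (fun h => hzR ?_)
    have h1 : R = H := Subgroup.eq_of_le_of_card_ge hRH (by rw [h, hR9])
    rw [h1]; exact hzH
  have h1 : centralizer (R : Set Q) = ⊤ := hlt _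
    (fun a ha => by
      rw [mem_centralizer_iff]
      intro b hb
      exact congrArg Subtype.val (hRc.is_comm.comm (⟨b, hb⟩ : R) ⟨a, ha⟩))
    (by rw [mem_centralizer_iff]; intro b _; exact (hz b).symm)
  have h2 : center Q = ⊤ := hlt _
    (fun a ha => by
      rw [mem_center_iff]
      intro b
      have : b ∈ centralizer (R : Set Q) := by rw [h1]; trivial
      exact ((mem_centralizer_iff.1 this) a ha).symm)
    (by rw [mem_center_iff]; intro b; exact (hz b).symm)
  obtain ⟨a, b, hab⟩ := hna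
  apply hab
  have : b ∈ center Q := by rw [h2]; trivial
  exact (mem_center_iff.1 this a)

/-- the arithmetic -/
theorem arith {j : ℕ} (hj : j ≤ 6) (h : 9 ∣ 64 - 2 ^ j) : j = 0 ∨ j = 6 := by
  interval_cases j <;> revert h <;> decide

variable {V : Type u} [AddCommGroup V] [Module (ZMod 2) V] [Finite V]

/-- a non-abelian group of order 27 on `𝔽₂⁶`: no non-zero vector has a stabiliser of order divisible by 9 -/
theorem no_vector (hV : Nat.card V = 64) (Q : Subgroup (V ≃ₗ[ZMod 2] V)) (hQ : Nat.card Q = 27)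
    (hna : ∃ a ∈ Q, ∃ b ∈ Q, a * b ≠ b * a) {u : V} (hu : u ≠ 0)
    (h9 : 9 ∣ Nat.card (MulAction.stabilizer Q u)) : False := by
  classical
  have h3 : Fact (Nat.Prime 3) := ⟨Nat.prime_three⟩
  have hQp : IsPGroup 3 Q := IsPGroup.of_card (n := 3) (by rw [hQ]; norm_num)
  have hnt : Nontrivial Q := by
    obtain ⟨a, ha, b, hb, hab⟩ := hna
    exact ⟨⟨⟨a, ha⟩, 1, fun h => hab (by
      have h1 : a = 1 := congrArg Subtype.val h
      rw [h1, one_mul, mul_one])⟩⟩
  have hna' : ∃ a b : Q, a * b ≠ b * a := by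
    obtain ⟨a, ha, b, hb, hab⟩ := hna
    exact ⟨⟨a, ha⟩, ⟨b, hb⟩, fun h => hab (congrArg Subtype.val h)⟩
  have hcn := hQp.center_nontrivial
  obtain ⟨⟨z, hz⟩, hz1⟩ := exists_ne (1 : center Q)
  have hz1' : z ≠ 1 := fun h => hz1 (Subtype.ext h)
  have hzc : ∀ a, z * a = a * z := fun a => (mem_center_iff.1 hz a).symm
  have hstab : ∀ v : V, 9 ∣ Nat.card (MulAction.stabilizer Q v) → (z : V ≃ₗ[ZMod 2] V) v = v := by
    intro v hv
    exact mem_of_card hQ hna' hzc hv
  let X : Set V := {v | (z : V ≃ₗ[ZMod 2] V) v ≠ v}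
  have hX : ∀ g : Q, ∀ v ∈ X, (g : V ≃ₗ[ZMod 2] V) v ∈ X := by
    intro g v hv h
    apply hv
    have h1 : ((z * g : Q) : V ≃ₗ[ZMod 2] V) v = (g : V ≃ₗ[ZMod 2] V) v := h
    rw [hzc g] at h1
    exact (g : V ≃ₗ[ZMod 2] V).injective h1
  let _ : MulAction Q X :=
    { smul := fun g x => ⟨(g : V ≃ₗ[ZMod 2] V) x, hX g x x.2⟩
      one_smul := fun x => Subtype.ext rfl
      mul_smul := fun a b x => Subtype.ext rfl }
  have h9X : 9 ∣ Nat.card X := by
    refine dvd_card_of_dvd_orbits (Γ := Q) ?_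
    intro x
    have h1 := MulAction.card_orbit_mul_card_stabilizer_eq_card_group Q x
    rw [← Nat.card_eq_fintype_card, ← Nat.card_eq_fintype_card, ← Nat.card_eq_fintype_card, hQ] at h1
    have h2 : ¬ 9 ∣ Nat.card (MulAction.stabilizer Q x) := by
      intro h
      have h4 : MulAction.stabilizer Q x = MulAction.stabilizer Q (x : V) := by
        ext g
        exact Subtype.ext_iff
      rw [h4] at h
      exact x.2 (hstab _ h)
    have h5 : Nat.card (MulAction.stabilizer Q x) ∣ 27 := ⟨_, by rw [mul_comm]; exact h1.symm⟩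
    have h6 : Nat.card (MulAction.stabilizer Q x) ≤ 27 := Nat.le_of_dvd (by norm_num) h5
    generalize Nat.card (MulAction.stabilizer Q x) = s at *
    interval_cases s <;> omega
  have hfx : Nat.card (fx (z : V ≃ₗ[ZMod 2] V)) + Nat.card X = 64 := by
    rw [← hV]
    have h1 : Nat.card X = Nat.card {v : V // ¬ v ∈ fx (z : V ≃ₗ[ZMod 2] V)} := by
      refine Nat.card_congr (Equiv.subtypeEquivRight fun v => ?_)
      rw [mem_fx]
      rfl
    rw [h1]
    have h2 := Fintype.card_subtype_compl (fun v : V => v ∈ fx (z : V ≃ₗ[ZMod 2] V))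
    have h3 := Fintype.card_subtype_le (fun v : V => v ∈ fx (z : V ≃ₗ[ZMod 2] V))
    rw [← Nat.card_eq_fintype_card, ← Nat.card_eq_fintype_card, ← Nat.card_eq_fintype_card] at h2
    rw [← Nat.card_eq_fintype_card, ← Nat.card_eq_fintype_card] at h3
    have h4 : Nat.card (fx (z : V ≃ₗ[ZMod 2] V)) = Nat.card {v : V // v ∈ fx (z : V ≃ₗ[ZMod 2] V)} := rfl
    omega
  have hpow : Nat.card (fx (z : V ≃ₗ[ZMod 2] V)) = 2 ^ Module.finrank (ZMod 2) (fx (z : V ≃ₗ[ZMod 2] V)) := by
    rw [Module.natCard_eq_pow_finrank (K := ZMod 2), Nat.card_zmod]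
  have h64 : Nat.card V = 2 ^ 6 := by rw [hV]; norm_num
  have hj : Module.finrank (ZMod 2) (fx (z : V ≃ₗ[ZMod 2] V)) ≤ 6 := by
    have h1 : 2 ^ Module.finrank (ZMod 2) (fx (z : V ≃ₗ[ZMod 2] V)) ≤ 2 ^ 6 := by
      rw [← hpow]
      have h2 : (2 : ℕ) ^ 6 = 64 := by norm_num
      omega
    exact (Nat.pow_le_pow_iff_right (by norm_num : 1 < 2)).1 h1
  rw [hpow] at hfx
  rcases arith hj (by
    have h1 : Nat.card X = 64 - 2 ^ Module.finrank (ZMod 2) (fx (z : V ≃ₗ[ZMod 2] V)) := by omega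
    rw [← h1]; exact h9X) with h0 | h6
  · rw [h0, pow_zero] at hpow
    have h1 : u ∈ fx (z : V ≃ₗ[ZMod 2] V) := by
      rw [mem_fx]; exact hstab u h9
    have h2 : (⟨u, h1⟩ : fx (z : V ≃ₗ[ZMod 2] V)) = 0 := by
      have := (Nat.card_eq_one_iff_unique.1 hpow).1
      exact Subsingleton.elim _ _
    exact hu (congrArg Subtype.val h2)
  · rw [h6] at hpow hfx
    have h1 : Nat.card X = 0 := by
      have h2 : (2 : ℕ) ^ 6 = 64 := by norm_num
      omega
    apply hz1'
    apply Subtype.ext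
    apply LinearEquiv.ext
    intro v
    by_contra hv
    have : Nonempty X := ⟨⟨v, hv⟩⟩
    have := Nat.card_pos (α := X)
    omega

variable {p : ℕ} [hpp : Fact p.Prime] {K : Type w} [Field K] {V : Type u} [AddCommGroup V] [Module (ZMod p) V]
  [Module K V] [Finite V] {G L : Subgroup (V ≃ₗ[ZMod p] V)} {h : ℕ}

/-- **The survivor `U₃(3)`.** -/
theorem kill (H : QSP p K V G L h) {m : ℕ} (hm : m * h = Nat.card G) (hT : H912.Bd.IsU 3 3 (L ⧸ center L))
    (hn : (Module.finrank K V, Nat.card K, m) ∈ [(6, 2, 21)]) : False := by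
  classical
  rw [List.mem_singleton, Prod.mk.injEq, Prod.mk.injEq] at hn
  obtain ⟨hn, hK, rfl⟩ := hn
  have HQ : QL p K V G L h := ⟨H.half, H.le, H.nrm, H.perf, H.simple, H.nonab, H.lin, H.endo, H.irr⟩
  have hp2 : p = 2 := by
    obtain ⟨k, hk, hk0⟩ := Cfsg.Agent.H192.Ht.QN.exists_card HQ
    rw [hK] at hk
    have h1 : p ∣ 2 := by rw [hk]; exact dvd_pow_self p hk0.ne'
    exact (Nat.prime_dvd_prime_iff_eq hpp.out Nat.prime_two).1 h1
  subst hp2
  have hV : Nat.card V = 64 := by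
    rw [Cfsg.Agent.H192.Ht.QN.card_V HQ, hn, hK]; norm_num
  obtain ⟨v, hv⟩ := Cfsg.Agent.H192.Ht.QN.exists_ne HQ
  -- the centre is trivial
  have hZ : ∀ l : L, l ∈ center L → l = 1 := by
    intro l hl
    obtain ⟨c, hc⟩ := H.endo (l : V ≃ₗ[ZMod 2] V) (fun a ha w => by
      have h1 := mem_center_iff.1 hl ⟨a, ha⟩
      have h2 : a * (l : V ≃ₗ[ZMod 2] V) = l * a := congrArg Subtype.val h1
      exact (LinearEquiv.congr_fun h2 w).symm)
    have hc1 : c = 1 := by
      have hc0 : c ≠ 0 := by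
        rintro rfl
        have h3 := hc v
        rw [zero_smul] at h3
        exact hv ((l : V ≃ₗ[ZMod 2] V).map_eq_zero_iff.1 h3)
      have hfin : Finite K := Nat.finite_of_card_ne_zero (by rw [hK]; norm_num)
      have := Fintype.ofFinite K
      have h4 := FiniteField.pow_card_sub_one_eq_one c hc0
      rw [← Nat.card_eq_fintype_card, hK] at h4
      simpa using h4
    apply Subtype.ext
    apply LinearEquiv.ext
    intro w
    have h5 := hc w
    rw [hc1, one_smul] at h5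
    exact h5
  obtain ⟨F, _, _, hF, ⟨e⟩⟩ := hT
  let f : L →* PSU 3 F 3 := e.toMonoidHom.comp (QuotientGroup.mk' (center L))
  have hfs : Function.Surjective f := e.surjective.comp (QuotientGroup.mk'_surjective _)
  have hfi : Function.Injective f := by
    rw [injective_iff_map_eq_one]
    intro a ha
    apply hZ
    have h1 : QuotientGroup.mk' (center L) a = 1 := e.injective (by rw [map_one]; exact ha)
    exact (QuotientGroup.eq_one_iff a).1 h1
  have h3 : Fact (Nat.Prime 3) := ⟨Nat.prime_three⟩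
  obtain ⟨P⟩ : Nonempty (Sylow 3 L) := inferInstance
  obtain ⟨hP1, ⟨a, ha, b, hb, hab⟩, -⟩ := H933.HT.u33_sylow (F := F) (by rw [hF]) (P.mapSurjective hfs)
  obtain ⟨a, ha, rfl⟩ := ha
  obtain ⟨b, hb, rfl⟩ := hb
  have hP : Nat.card P = 27 := by
    rw [← hP1]
    exact Nat.card_congr ((P : Subgroup L).equivMapOfInjective f hfi).toEquiv
  let Q : Subgroup (V ≃ₗ[ZMod 2] V) := (P : Subgroup L).map L.subtype
  have hQ : Nat.card Q = 27 := by
    rw [← hP]
    exact (Nat.card_congr ((P : Subgroup L).equivMapOfInjective _ L.subtype_injective).toEquiv).symm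
  have hQL : Q ≤ L := by
    rintro _ ⟨x, -, rfl⟩
    exact x.2
  have h0 : 0 < h := by have := H.two_le; omega
  obtain ⟨l, hl, k, hk, hk2⟩ := exists_relIndex H.half h0 hm H.le H.nrm Nat.prime_three Q hQL
    (IsPGroup.of_card (n := 3) (by rw [hQ]; norm_num)) hv
  rw [hQ] at hk2
  refine no_vector hV Q hQ ⟨a, ⟨a, ha, rfl⟩, b, ⟨b, hb, rfl⟩, ?_⟩ (u := l v) ?_ ?_
  · intro h1
    apply hab
    rw [← map_mul, ← map_mul]
    congr 1
    exact Subtype.ext h1
  · exact fun h1 => hv (l.map_eq_zero_iff.1 h1)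
  · have hk3 : k ≤ 21 := Nat.le_of_dvd (by norm_num) hk
    generalize Nat.card (MulAction.stabilizer Q (l v)) = s at *
    interval_cases k <;> omega

end Cfsg.Agent.H828.HT.KillU33
end
end
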